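import Mathlib

/-!
# Automorphisms of `A₄` and `A₅`
-/

set_option autoImplicit false

namespace Cfsg.Agent.Forms.DicksonPGL

set_option synthInstance.maxSize 4000 in
set_option synthInstance.maxHeartbeats 100000 in
theorem alt4_gen : ∃ x y : alternatingGroup (Fin 4), x ^ 3 = 1 ∧ x ≠ 1 ∧ y ^ 3 = 1 ∧ y ≠ 1 ∧
    (x * y) ^ 2 = 1 ∧ x * y ≠ 1 ∧ ∀ z, ∃ i j k : Fin 3, z = x ^ (i : ℕ) * y ^ (j : ℕ) * x ^ (k : ℕ) := by
  decide +kernel

theorem alt4_pairs : (Finset.univ.filter fun z : alternatingGroup (Fin 4) × alternatingGroup (Fin 4) =>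
    z.1 ^ 3 = 1 ∧ z.1 ≠ 1 ∧ z.2 ^ 3 = 1 ∧ z.2 ≠ 1 ∧ (z.1 * z.2) ^ 2 = 1 ∧ z.1 * z.2 ≠ 1).card = 24 := by
  decide +kernel

theorem sym4_faithful : ∀ s : Equiv.Perm (Fin 4),
    (∀ a : alternatingGroup (Fin 4), s * a * s⁻¹ = (a : Equiv.Perm (Fin 4))) → s = 1 := by
  decide +kernel

set_option synthInstance.maxSize 4000 in
set_option synthInstance.maxHeartbeats 100000 in
theorem alt5_gen : ∃ g b : alternatingGroup (Fin 5), g ^ 5 = 1 ∧ g ≠ 1 ∧ b ^ 2 = 1 ∧ b ≠ 1 ∧
    (g * b) ^ 3 = 1 ∧ g * b ≠ 1 ∧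
    (∀ c, c * g = g * c → ∃ i : Fin 5, c = g ^ (i : ℕ)) ∧
    (∀ b', b' ^ 2 = 1 ∧ b' ≠ 1 ∧ (g * b') ^ 3 = 1 ∧ g * b' ≠ 1 →
      ∃ i : Fin 5, b' = g ^ (i : ℕ) * b * (g ^ (i : ℕ))⁻¹ ∧
        (g ^ (i : ℕ) * b' * (g ^ (i : ℕ))⁻¹ = b → (i : ℕ) = 0)) := by
  decide +kernel

theorem alt5_two_inv : ∀ z : alternatingGroup (Fin 5),
    ∃ u v : alternatingGroup (Fin 5), u * u = 1 ∧ v * v = 1 ∧ z = u * v := by
  decide +kernel

theorem alt5_four : ∃ x y : alternatingGroup (Fin 5), x * x = 1 ∧ y * y = 1 ∧ x ≠ 1 ∧ y ≠ 1 ∧ x ≠ y ∧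
    x * y = y * x := by decide +kernel

/-- a group of order `24` acting faithfully on a normal `A₄` is `S₄` -/
theorem sym4_of {M : Type*} [Group M] (hM : Nat.card M = 24) (H : Subgroup M) [H.Normal]
    (e : H ≃* alternatingGroup (Fin 4)) (hC : ∀ m : M, (∀ h : H, m * h * m⁻¹ = h) → m = 1) :
    Nonempty (M ≃* Equiv.Perm (Fin 4)) := by
  classical
  haveI : Finite M := Nat.finite_of_card_ne_zero (by rw [hM]; norm_num)
  obtain ⟨x, y, hx, hx1, hy, hy1, hxy, hxy1, hgen⟩ := alt4_gen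
  let S := Finset.univ.filter fun z : alternatingGroup (Fin 4) × alternatingGroup (Fin 4) =>
    z.1 ^ 3 = 1 ∧ z.1 ≠ 1 ∧ z.2 ^ 3 = 1 ∧ z.2 ≠ 1 ∧ (z.1 * z.2) ^ 2 = 1 ∧ z.1 * z.2 ≠ 1
  let ev : MulAut (alternatingGroup (Fin 4)) → S := fun φ => ⟨(φ x, φ y), by
    simp only [S, Finset.mem_filter, Finset.mem_univ, true_and, ← map_pow, ← map_mul, ne_eq,
      EmbeddingLike.map_eq_one_iff]
    exact ⟨hx, hx1, hy, hy1, hxy, hxy1⟩⟩
  have hev : Function.Injective ev := by
    intro φ ψ h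
    have h' := congrArg Subtype.val h
    simp only [ev, Prod.mk.injEq] at h'
    refine MulEquiv.ext fun z => ?_
    obtain ⟨i, j, k, rfl⟩ := hgen z
    simp [map_mul, map_pow, h'.1, h'.2]
  haveI : Finite (MulAut (alternatingGroup (Fin 4))) := Finite.of_injective ev hev
  have hle : Nat.card (MulAut (alternatingGroup (Fin 4))) ≤ 24 := by
    refine (Nat.card_le_card_of_injective ev hev).trans (le_of_eq ?_)
    rw [Nat.card_eq_fintype_card, Fintype.card_coe]
    exact alt4_pairs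
  let a : Equiv.Perm (Fin 4) →* MulAut (alternatingGroup (Fin 4)) := MulAut.conjNormal
  have ha : Function.Injective a := by
    rw [injective_iff_map_eq_one]
    intro s hs
    refine sym4_faithful s fun z => ?_
    rw [← MulAut.conjNormal_apply, show MulAut.conjNormal s = (1 : MulAut (alternatingGroup (Fin 4))) from hs]
    rfl
  let b : M →* MulAut (alternatingGroup (Fin 4)) := (MulAut.congr e).toMonoidHom.comp MulAut.conjNormal
  have hb : Function.Injective b := by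
    rw [injective_iff_map_eq_one]
    intro m hm
    refine hC m fun h => ?_
    have h' : (MulAut.conjNormal m : MulAut H) = 1 := (MulAut.congr e).injective (hm.trans (map_one _).symm)
    rw [← MulAut.conjNormal_apply, h']
    rfl
  have hS : Nat.card (Equiv.Perm (Fin 4)) = 24 := by rw [Nat.card_perm, Nat.card_fin]; rfl
  have hca := Nat.card_le_card_of_injective a ha
  have hbijA : Function.Bijective a :=
    (Nat.bijective_iff_injective_and_card a).2 ⟨ha, by omega⟩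
  have hcb := Nat.card_le_card_of_injective b hb
  have hbijB : Function.Bijective b :=
    (Nat.bijective_iff_injective_and_card b).2 ⟨hb, by omega⟩
  exact ⟨(MulEquiv.ofBijective b hbijB).trans (MulEquiv.ofBijective a hbijA).symm⟩

/-- an involutory automorphism of `A₅` fixing an element of order five is trivial -/
theorem alt5_aut_trivial : ∃ g : alternatingGroup (Fin 5), g ^ 5 = 1 ∧ g ≠ 1 ∧
    (∀ c, c * g = g * c → c ∈ Subgroup.zpowers g) ∧
    ∀ φ : MulAut (alternatingGroup (Fin 5)), φ g = g → (∀ z, φ (φ z) = z) → φ = 1 := by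
  classical
  obtain ⟨g, b, hg, hg1, hb, hb1, hgb, hgb1, hcent, hcand⟩ := alt5_gen
  refine ⟨g, hg, hg1, fun c hc => ?_, fun φ hfix hsq => ?_⟩
  · obtain ⟨i, rfl⟩ := hcent c hc
    exact Subgroup.pow_mem _ (Subgroup.mem_zpowers g) _
  obtain ⟨i, hi, hi'⟩ := hcand (φ b) ⟨by rw [← map_pow, hb, map_one],
    fun e => hb1 (φ.injective (e.trans (map_one φ).symm)),
    by rw [← hfix, ← map_mul, ← map_pow, hgb, map_one],
    fun e => hgb1 (φ.injective (by rw [map_mul, hfix, e, map_one]))⟩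
  have hfb : φ b = b := by
    have h0 := hi' (by
      conv_rhs => rw [← hsq b, hi]
      rw [map_mul, map_mul, map_inv, map_pow, hfix])
    rw [hi, h0, pow_zero, one_mul, inv_one, mul_one]
  let E : Subgroup (alternatingGroup (Fin 5)) :=
    MonoidHom.eqLocus φ.toMonoidHom (MonoidHom.id _)
  have hgE : g ∈ E := hfix
  have hbE : b ∈ E := hfb
  have dv : ∀ z ∈ E, ∀ r : ℕ, r.Prime → z ^ r = 1 → z ≠ 1 → r ∣ Nat.card E := fun z hz r hr h1 h2 => by
    haveI : Fact r.Prime := ⟨hr⟩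
    rw [← orderOf_eq_prime h1 h2]
    exact Subgroup.orderOf_dvd_natCard _ hz
  have h30 : 30 ∣ Nat.card E := (Nat.Coprime.mul_dvd_of_dvd_of_dvd (show Nat.Coprime 6 5 by norm_num)
    (Nat.Coprime.mul_dvd_of_dvd_of_dvd (show Nat.Coprime 2 3 by norm_num) (dv b hbE 2 Nat.prime_two hb hb1)
      (dv _ (mul_mem hgE hbE) 3 Nat.prime_three hgb hgb1)) (dv g hgE 5 (by norm_num) hg hg1))
  have h60 : Nat.card (alternatingGroup (Fin 5)) = 60 := by
    rw [nat_card_alternatingGroup, Nat.card_fin]; rfl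
  have hEtop : E = ⊤ := by
    by_contra hne
    have hi2 : E.index = 2 := by
      have h1 : E.index ≠ 1 := fun e => hne (Subgroup.index_eq_one.1 e)
      obtain ⟨t, ht⟩ := h30
      have h2 := E.index_mul_card
      rw [h60, ht] at h2
      have ht0 : t ≠ 0 := fun e => by subst e; simp at h2
      have : E.index * t = 2 := by nlinarith
      rcases Nat.prime_two.eq_one_or_self_of_dvd E.index ⟨t, this.symm⟩ with h | h
      · exact absurd h h1
      · exact h
    haveI := Subgroup.normal_of_index_eq_two hi2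
    rcases (inferInstance : E.Normal).eq_bot_or_eq_top with h | h
    · rw [h, Subgroup.index_bot, h60] at hi2; norm_num at hi2
    · exact hne h
  refine MulEquiv.ext fun z => ?_
  have : z ∈ E := hEtop ▸ Subgroup.mem_top z
  exact this

end Cfsg.Agent.Forms.DicksonPGL
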