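import Mathlib
import Cfsg.Agent.Lib.Forms.DicksonCor

/-!
# Subgroups of `PGL₂(q)` over `PSL₂(q)`
-/

set_option autoImplicit false
set_option linter.unusedSectionVars false

open scoped Classical

namespace Cfsg.Agent.Forms.DicksonPGL

open Matrix MulAction
open scoped MatrixGroups

variable {F : Type*} [Field F] [Fintype F]

local notation "PP" => Matrix.ProjGenLinGroup (Fin 2) F
local notation "PG" => Matrix.ProjectiveSpecialLinearGroup (Fin 2) F
local notation "mk'" => Matrix.ProjGenLinGroup.mk (n := Fin 2) (R := F)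

/-- the image of `PSL₂` -/
def L (F : Type*) [Field F] : Subgroup (Matrix.ProjGenLinGroup (Fin 2) F) :=
  (Matrix.ProjectiveSpecialLinearGroup.toPGL (n := Fin 2) (R := F)).range

theorem L_eq : (Matrix.ProjGenLinGroup.mk.comp
    (Matrix.SpecialLinearGroup.toGL (n := Fin 2) (R := F))).range = L F := by
  refine le_antisymm ?_ ?_
  · rintro _ ⟨X, rfl⟩
    exact ⟨KleinPSL.pi F X, rfl⟩
  · rintro _ ⟨x, rfl⟩
    obtain ⟨X, rfl⟩ := KleinPSL.pi_surjective x
    exact ⟨X, rfl⟩

theorem toPGL_pi (X : SL(2, F)) : Matrix.ProjectiveSpecialLinearGroup.toPGL (KleinPSL.pi F X) =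
    mk' (Matrix.SpecialLinearGroup.toGL X) := rfl

theorem mk_mem_L {h : GL (Fin 2) F} :
    mk' h ∈ L F ↔ IsSquare (h : Matrix (Fin 2) (Fin 2) F).det := by
  constructor
  · rintro ⟨x, hx⟩
    obtain ⟨X, rfl⟩ := KleinPSL.pi_surjective x
    rw [toPGL_pi, eq_comm, Matrix.ProjGenLinGroup.mk_eq_mk_iff] at hx
    obtain ⟨r, hr⟩ := hx
    refine ⟨(r : F)⁻¹, ?_⟩
    have := congrArg (fun g : GL (Fin 2) F => (g : Matrix (Fin 2) (Fin 2) F).det) hr
    simp [Matrix.det_fin_two, Matrix.mul_apply, Fin.sum_univ_two, Matrix.SpecialLinearGroup.toGL] at this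
    rw [Matrix.det_fin_two]
    field_simp
    linear_combination this
  · rintro ⟨r, hr⟩
    have hr0 : r ≠ 0 := fun e => h.det_ne_zero (by rw [hr, e, mul_zero])
    let X : SL(2, F) := ⟨r⁻¹ • (h : Matrix (Fin 2) (Fin 2) F), by
      rw [Matrix.det_smul, Fintype.card_fin, hr, pow_two]; field_simp⟩
    refine ⟨KleinPSL.pi F X, ?_⟩
    have e : Matrix.SpecialLinearGroup.toGL X =
        GeneralLinearGroup.scalar (Fin 2) (Units.mk0 r⁻¹ (inv_ne_zero hr0)) * h := by
      ext i j
      fin_cases i <;> fin_cases j <;> simp [X, Matrix.SpecialLinearGroup.toGL, Matrix.mul_apply, Fin.sum_univ_two] <;> rfl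
    rw [toPGL_pi, e, map_mul, Matrix.ProjGenLinGroup.mk_scalar, one_mul]

theorem mem_L_iff_conj {γ x : PP} : γ * x * γ⁻¹ ∈ L F ↔ x ∈ L F := by
  obtain ⟨g, rfl⟩ := Matrix.ProjGenLinGroup.mk_surjective γ
  obtain ⟨h, rfl⟩ := Matrix.ProjGenLinGroup.mk_surjective x
  rw [← map_inv, ← map_mul, ← map_mul, mk_mem_L, mk_mem_L, Units.val_mul, Units.val_mul,
    Matrix.det_mul, Matrix.det_mul, mul_right_comm, ← Matrix.det_mul, ← Units.val_mul, mul_inv_cancel,
    Units.val_one, Matrix.det_one, one_mul]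

instance L_normal : (L F).Normal := ⟨fun _ hx _ => mem_L_iff_conj.2 hx⟩

instance : Finite PP := Finite.of_surjective _ Matrix.ProjGenLinGroup.mk_surjective

theorem natCard_L : Nat.card (L F) = Nat.card PG :=
  (Nat.card_congr (MonoidHom.ofInjective Matrix.ProjectiveSpecialLinearGroup.toPGL_injective).toEquiv).symm

theorem natCard_PP : Nat.card PP = Fintype.card F * ((Fintype.card F - 1) * (Fintype.card F + 1)) := by
  rw [Classical.Linear.natCard_PGL, Classical.GL2.natCard_SL_two]

theorem natCard_PP_le : Nat.card PP ≤ 2 * Nat.card (L F) := by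
  rw [natCard_L]
  exact DicksonField.natCard_pgl_le F

theorem not_L_le_of_card {N : Subgroup PP} (h : Nat.card N < Nat.card (L F)) : ¬ L F ≤ N :=
  fun hle => absurd (Subgroup.card_le_of_le hle) (Nat.not_le.2 h)

/-- maximality in an ambient group between `L` and the whole group -/
structure MaxIn (G0 M : Subgroup (Matrix.ProjGenLinGroup (Fin 2) F)) : Prop where
  amb : L F ≤ G0
  le : M ≤ G0
  not_le : ¬ L F ≤ M
  hmax : ∀ N, M ≤ N → ¬ L F ≤ N → N ⊓ G0 ≤ M

theorem MaxIn.eq_inf {G0 M N : Subgroup PP} (h : MaxIn G0 M) (hle : M ≤ N) (hN : ¬ L F ≤ N) :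
    M = N ⊓ G0 := le_antisymm (le_inf hle h.le) (h.hmax N hle hN)

theorem maxIn_pgl {M : Subgroup PP} (hM : IsCoatom M) (hML : ¬ L F ≤ M) : MaxIn ⊤ M where
  amb := le_top
  le := le_top
  not_le := hML
  hmax N hle hN := by
    rcases hM.le_iff.1 hle with h | h
    · exact absurd (h ▸ le_top) hN
    · exact h ▸ inf_le_left

theorem maxIn_psl {M : Subgroup PG} (hM : IsCoatom M) :
    MaxIn (L F) (M.map Matrix.ProjectiveSpecialLinearGroup.toPGL) where
  amb := le_rfl
  le := Subgroup.map_le_range _ _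
  not_le h := hM.1 (top_le_iff.1 fun x _ => by
    obtain ⟨y, hy, hxy⟩ := h ⟨x, rfl⟩
    exact Matrix.ProjectiveSpecialLinearGroup.toPGL_injective hxy ▸ hy)
  hmax N hle hN := by
    rintro x ⟨hxN, y, rfl⟩
    rcases hM.le_iff.1 (Subgroup.map_le_iff_le_comap.1 hle) with h | h
    · refine absurd ?_ hN
      rintro _ ⟨z, rfl⟩
      have hz : z ∈ N.comap Matrix.ProjectiveSpecialLinearGroup.toPGL := h ▸ Subgroup.mem_top z
      exact hz
    · exact ⟨y, h ▸ hxN, rfl⟩

/-! ### point stabilisers -/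

theorem center_le_stabilizer (w : OnePoint F) :
    Subgroup.center (GL (Fin 2) F) ≤ stabilizer (GL (Fin 2) F) w := by
  intro g hg
  rw [GeneralLinearGroup.center_eq_range_scalar] at hg
  obtain ⟨r, rfl⟩ := hg
  rw [mem_stabilizer_iff]
  cases w with
  | infty => rw [OnePoint.smul_infty_eq_self_iff]; simp
  | coe c =>
    rw [← GeneralLinearGroup.fixpointPolynomial_aeval_eq_zero_iff]
    simp [GeneralLinearGroup.fixpointPolynomial]

/-- the stabiliser of a point -/
noncomputable def stabW (w : OnePoint F) : Subgroup PP := (stabilizer (GL (Fin 2) F) w).map mk'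

theorem mk_mem_stabW {w : OnePoint F} {h : GL (Fin 2) F} : mk' h ∈ stabW w ↔ h • w = w := by
  refine ⟨?_, fun e => ⟨h, e, rfl⟩⟩
  rintro ⟨g, hg, hgh⟩
  obtain ⟨z, hz, rfl⟩ : ∃ z ∈ Subgroup.center (GL (Fin 2) F), g * z = h :=
    ⟨g⁻¹ * h, Matrix.ProjGenLinGroup.mk_eq_one.1 (by rw [map_mul, map_inv, hgh, inv_mul_cancel]),
      mul_inv_cancel_left g h⟩
  rw [mul_smul, mem_stabilizer_iff.1 (center_le_stabilizer w hz)]
  exact hg

theorem comap_stabW (w : OnePoint F) :
    (stabW w).comap Matrix.ProjectiveSpecialLinearGroup.toPGL =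
      stabilizer PG (DicksonField.emb F w) := by
  ext x
  obtain ⟨X, rfl⟩ := KleinPSL.pi_surjective x
  rw [Subgroup.mem_comap, toPGL_pi, mk_mem_stabW, mem_stabilizer_iff, DicksonField.pi_smul_emb,
    DicksonField.emb_injective.eq_iff]

theorem index_stabW (w : OnePoint F) : (stabW w).index = Fintype.card F + 1 := by
  have hker : (mk').ker ≤ stabilizer (GL (Fin 2) F) w := by
    rw [Matrix.ProjGenLinGroup.ker_mk]
    exact center_le_stabilizer w
  rw [stabW, Subgroup.index_map_eq _ Matrix.ProjGenLinGroup.mk_surjective hker, index_stabilizer]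
  have e : orbit (GL (Fin 2) F) w = Set.univ := by
    refine Set.eq_univ_of_forall fun v => ?_
    have hv : DicksonField.emb F v ∈ orbit PG (DicksonField.emb F w) := by
      rw [DicksonCor.orbit_emb]; exact ⟨v, rfl⟩
    obtain ⟨x, hx⟩ := hv
    obtain ⟨X, rfl⟩ := KleinPSL.pi_surjective x
    exact ⟨Matrix.SpecialLinearGroup.toGL X,
      DicksonField.emb_injective ((DicksonField.pi_smul_emb X w).symm.trans hx)⟩
  rw [e, Set.ncard_univ, show Nat.card (OnePoint F) = Nat.card (Option F) from rfl, Finite.card_option,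
    Nat.card_eq_fintype_card]

theorem natCard_stabW (w : OnePoint F) :
    Nat.card (stabW w) = Fintype.card F * (Fintype.card F - 1) := by
  have h := (stabW w).index_mul_card
  rw [index_stabW, natCard_PP] at h
  refine Nat.eq_of_mul_eq_mul_left (n := Fintype.card F + 1) (by omega) ?_
  rw [h]; ring

theorem index_stabilizer_psl (w : OnePoint F) :
    (stabilizer PG (DicksonField.emb F w)).index = Fintype.card F + 1 :=
  DicksonCor.index_stabilizer_emb w

theorem not_L_le_stabW (w : OnePoint F) : ¬ L F ≤ stabW w := by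
  intro h
  have he : stabilizer PG (DicksonField.emb F w) = ⊤ := by
    rw [← comap_stabW, eq_top_iff]
    intro x _
    exact h ⟨x, rfl⟩
  have := index_stabilizer_psl (F := F) w
  rw [he, Subgroup.index_top] at this
  have := Fintype.card_pos (α := F)
  omega

theorem natCard_stabilizer_psl (w : OnePoint F) :
    Nat.gcd 2 (Fintype.card F - 1) * Nat.card (stabilizer PG (DicksonField.emb F w)) =
      Fintype.card F * (Fintype.card F - 1) := by
  have h := (stabilizer PG (DicksonField.emb F w)).index_mul_card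
  rw [index_stabilizer_psl] at h
  refine Nat.eq_of_mul_eq_mul_left (n := Fintype.card F + 1) (by omega) ?_
  rw [mul_left_comm, h, DicksonCor.gcd_mul_natCard]; ring

/-! ### subfield subgroups -/

section sub

variable {K : Type*} [Field K]

/-- a conjugate of a subfield subgroup -/
noncomputable def sub (f : K →+* F) (γ : GL (Fin 2) F) : Subgroup PP :=
  (DicksonField.pglMap f).range.comap (MulAut.conj (mk' γ)).toMonoidHom

theorem mem_sub {f : K →+* F} {γ : GL (Fin 2) F} {x : PP} :
    x ∈ sub f γ ↔ mk' γ * x * (mk' γ)⁻¹ ∈ (DicksonField.pglMap f).range := Iff.rfl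

theorem sub_mono {K' : Type*} [Field K'] (f : K →+* F) (f' : K' →+* F)
    (h : Set.range f ⊆ Set.range f') (γ : GL (Fin 2) F) : sub f γ ≤ sub f' γ := by
  choose g hg using fun k => h ⟨k, rfl⟩
  let j : K →+* K' :=
    { toFun := g
      map_one' := f'.injective (by rw [hg, map_one, map_one])
      map_mul' := fun a b => f'.injective (by rw [hg, map_mul f', hg, hg, map_mul])
      map_zero' := f'.injective (by rw [hg, map_zero, map_zero])
      map_add' := fun a b => f'.injective (by rw [hg, map_add f', hg, hg, map_add]) }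
  refine Subgroup.comap_mono ?_
  rintro _ ⟨x, rfl⟩
  obtain ⟨A, rfl⟩ := Matrix.ProjGenLinGroup.mk_surjective x
  refine ⟨Matrix.ProjGenLinGroup.mk (GeneralLinearGroup.map j A), ?_⟩
  rw [DicksonField.pglMap_mk, DicksonField.pglMap_mk]
  congr 1
  refine Units.ext (Matrix.ext fun a b => ?_)
  exact hg _

/-- the isomorphism with `PGL₂` of the subfield -/
noncomputable def subEquiv (f : K →+* F) (γ : GL (Fin 2) F) :
    sub f γ ≃* Matrix.ProjGenLinGroup (Fin 2) K :=
  (((MulAut.conj (mk' γ)).subgroupMap (sub f γ)).trans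
    (MulEquiv.subgroupCongr (Subgroup.map_comap_eq_self_of_surjective
      (MulAut.conj (mk' γ)).surjective (DicksonField.pglMap f).range))).trans
    (MonoidHom.ofInjective (DicksonField.pglMap_injective f)).symm

variable [Fintype K]

theorem natCard_sub (f : K →+* F) (γ : GL (Fin 2) F) :
    Nat.card (sub f γ) = Fintype.card K * ((Fintype.card K - 1) * (Fintype.card K + 1)) := by
  rw [Nat.card_congr (subEquiv f γ).toEquiv, Classical.Linear.natCard_PGL, Classical.GL2.natCard_SL_two]

theorem two_mul_card_lt {k m q : ℕ} (hk : 2 ≤ k) (hm : k ^ m = q) (hm2 : 2 ≤ m) :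
    2 * (k * ((k - 1) * (k + 1))) < q * ((q - 1) * (q + 1)) := by
  have hkq : 2 * k ≤ q := by
    calc 2 * k ≤ k * k := Nat.mul_le_mul_right k hk
      _ = k ^ 2 := (pow_two k).symm
      _ ≤ q := hm ▸ Nat.pow_le_pow_right (by omega) hm2
  rw [← mul_assoc 2]
  exact Nat.mul_lt_mul_of_le_of_lt hkq (Nat.mul_lt_mul_of_le_of_lt (by omega) (by omega) (by omega))
    (by omega)

theorem not_L_le_sub (f : K →+* F) (γ : GL (Fin 2) F) {m : ℕ}
    (hm : Fintype.card K ^ m = Fintype.card F) (hm2 : 2 ≤ m) : ¬ L F ≤ sub f γ := by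
  refine not_L_le_of_card ?_
  have h := two_mul_card_lt Fintype.one_lt_card hm hm2
  have h2 := natCard_PP_le (F := F)
  rw [natCard_PP] at h2
  rw [natCard_sub]
  omega

/-- squares of the subfield: all of them in even degree -/
theorem isSquare_map_of_even (f : K →+* F) {m : ℕ} (hm : Fintype.card K ^ m = Fintype.card F)
    (he : Even m) (a : K) : IsSquare (f a) := by
  rcases eq_or_ne a 0 with rfl | ha
  · rw [map_zero]; exact IsSquare.zero
  by_cases h2 : ringChar F = 2
  · exact FiniteField.isSquare_of_char_two h2 _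
  rw [FiniteField.isSquare_iff h2 ((map_ne_zero f).2 ha)]
  have hodd : Fintype.card F % 2 = 1 := FiniteField.odd_card_of_char_ne_two h2
  obtain ⟨j, rfl⟩ := he
  have h8 : Fintype.card K % 2 = 1 := by
    rw [← hm, Nat.pow_mod] at hodd
    rcases Nat.mod_two_eq_zero_or_one (Fintype.card K) with e | e
    · rw [e] at hodd
      rcases j with _ | j
      · simp at hm
        have := Fintype.one_lt_card (α := F)
        omega
      · simp at hodd
    · exact e
  have hd : Fintype.card K ^ 2 - 1 ∣ Fintype.card K ^ (j + j) - 1 := by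
    rw [← two_mul, pow_mul]
    simpa using Nat.sub_dvd_pow_sub_pow (Fintype.card K ^ 2) 1 j
  obtain ⟨t, ht⟩ := hd
  have hsq : Fintype.card K ^ 2 - 1 = (Fintype.card K - 1) * (Fintype.card K + 1) := by
    rw [mul_comm, ← Nat.sq_sub_sq, one_pow]
  obtain ⟨s, hs⟩ : 2 ∣ Fintype.card K + 1 := by omega
  have e : Fintype.card F / 2 = (Fintype.card K - 1) * (s * t) := by
    rw [hsq, hs, hm] at ht
    have : Fintype.card F - 1 = 2 * ((Fintype.card K - 1) * (s * t)) := by rw [ht]; ring
    omega
  rw [e, ← map_pow, pow_mul, FiniteField.pow_card_sub_one_eq_one a ha, one_pow, map_one]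

/-- squares of the subfield in odd degree -/
theorem isSquare_map_of_odd (f : K →+* F) {m : ℕ} (hm : Fintype.card K ^ m = Fintype.card F)
    (ho : Odd m) (a : K) : IsSquare (f a) ↔ IsSquare a := by
  refine ⟨fun hsq => ?_, fun h => h.map f⟩
  rcases eq_or_ne a 0 with rfl | ha
  · exact IsSquare.zero
  by_cases h2 : ringChar K = 2
  · exact FiniteField.isSquare_of_char_two h2 _
  have h2F : ringChar F ≠ 2 := by
    obtain ⟨c, hc⟩ := CharP.exists K
    haveI := hc
    haveI : CharP F c := (f.charP_iff f.injective c).1 hc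
    rwa [ringChar.eq F c, ← ringChar.eq K c]
  rw [FiniteField.isSquare_iff h2F ((map_ne_zero f).2 ha), ← map_pow, map_eq_one_iff f f.injective] at hsq
  rw [FiniteField.isSquare_iff h2 ha]
  have hodd : Fintype.card K % 2 = 1 := FiniteField.odd_card_of_char_ne_two h2
  obtain ⟨t, ht⟩ : Fintype.card K - 1 ∣ Fintype.card F - 1 := by
    rw [← hm]; simpa using Nat.sub_dvd_pow_sub_pow (Fintype.card K) 1 m
  have hto : Odd t := by
    rw [← hm] at ht
    have hg : t = ∑ i ∈ Finset.range m, Fintype.card K ^ i := by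
      refine Nat.eq_of_mul_eq_mul_left (n := Fintype.card K - 1)
        (by have := Fintype.one_lt_card (α := K); omega) ?_
      rw [← ht, mul_comm, geom_sum_mul_of_one_le (Fintype.card_pos (α := K))]
    rw [hg, Finset.odd_sum_iff_odd_card_odd, Finset.filter_true_of_mem, Finset.card_range]
    · exact ho
    · exact fun i _ => (Nat.odd_iff.2 hodd).pow
  have e : Fintype.card F / 2 = Fintype.card K / 2 * t := by
    have h1 : 2 * (Fintype.card K / 2 * t) = Fintype.card F - 1 := by
      rw [ht, ← mul_assoc]; congr 1; omega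
    have := FiniteField.odd_card_of_char_ne_two h2F
    omega
  rw [e, pow_mul] at hsq
  rcases FiniteField.pow_dichotomy h2 ha with h | h
  · exact h
  · rw [h, hto.neg_one_pow] at hsq
    exact absurd hsq (Ring.neg_one_ne_one_of_char_ne_two h2)

theorem sub_le_L (f : K →+* F) (γ : GL (Fin 2) F) {m : ℕ}
    (hm : Fintype.card K ^ m = Fintype.card F) (he : Even m) : sub f γ ≤ L F := by
  intro x hx
  obtain ⟨y, hy⟩ := mem_sub.1 hx
  rw [← mem_L_iff_conj (γ := mk' γ), ← hy]
  obtain ⟨A, rfl⟩ := Matrix.ProjGenLinGroup.mk_surjective y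
  rw [DicksonField.pglMap_mk, mk_mem_L]
  convert isSquare_map_of_even f hm he (A : Matrix (Fin 2) (Fin 2) K).det using 1
  exact (RingHom.map_det f (A : Matrix (Fin 2) (Fin 2) K)).symm

/-- in odd degree the intersection with `L` is `PSL₂` of the subfield -/
theorem sub_inf_L (f : K →+* F) (γ : GL (Fin 2) F) {m : ℕ}
    (hm : Fintype.card K ^ m = Fintype.card F) (ho : Odd m) :
    Nonempty ((sub f γ ⊓ L F : Subgroup PP) ≃* Matrix.ProjectiveSpecialLinearGroup (Fin 2) K) := by
  let θ : Matrix.ProjectiveSpecialLinearGroup (Fin 2) K →* PP :=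
    (MulAut.conj (mk' γ)).symm.toMonoidHom.comp
      ((DicksonField.pglMap f).comp Matrix.ProjectiveSpecialLinearGroup.toPGL)
  have hθ : Function.Injective θ := fun a b h =>
    Matrix.ProjectiveSpecialLinearGroup.toPGL_injective
      (DicksonField.pglMap_injective f ((MulAut.conj (mk' γ)).symm.injective h))
  have key : ∀ z : Matrix.ProjGenLinGroup (Fin 2) K,
      DicksonField.pglMap f z ∈ L F ↔ z ∈ L K := by
    intro z
    obtain ⟨A, rfl⟩ := Matrix.ProjGenLinGroup.mk_surjective z
    rw [DicksonField.pglMap_mk, mk_mem_L, mk_mem_L]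
    convert isSquare_map_of_odd f hm ho (A : Matrix (Fin 2) (Fin 2) K).det using 2
    exact (RingHom.map_det f (A : Matrix (Fin 2) (Fin 2) K)).symm
  have e : θ.range = sub f γ ⊓ L F := by
    ext x
    constructor
    · rintro ⟨s, rfl⟩
      have hz : MulAut.conj (mk' γ) (θ s) = DicksonField.pglMap f
          (Matrix.ProjectiveSpecialLinearGroup.toPGL s) := MulEquiv.apply_symm_apply _ _
      refine ⟨⟨_, hz.symm⟩, ?_⟩
      show θ s ∈ L F
      rw [← mem_L_iff_conj (γ := mk' γ)]
      have hL : DicksonField.pglMap f (Matrix.ProjectiveSpecialLinearGroup.toPGL s) ∈ L F :=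
        (key _).2 ⟨s, rfl⟩
      rwa [← hz] at hL
    · rintro ⟨hx, hxL⟩
      obtain ⟨z, hz⟩ := mem_sub.1 hx
      have hzL : DicksonField.pglMap f z ∈ L F := hz.symm ▸ mem_L_iff_conj.2 hxL
      obtain ⟨s, rfl⟩ := (key z).1 hzL
      refine ⟨s, ?_⟩
      show (MulAut.conj (mk' γ)).symm (DicksonField.pglMap f _) = x
      rw [hz]
      exact MulEquiv.symm_apply_apply (MulAut.conj (mk' γ)) x
  exact ⟨((MonoidHom.ofInjective hθ).trans (MulEquiv.subgroupCongr e)).symm⟩

theorem card_psl_le_sub_inf (f : K →+* F) (γ : GL (Fin 2) F) :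
    Nat.card (Matrix.ProjectiveSpecialLinearGroup (Fin 2) K) ≤
      Nat.card (sub f γ ⊓ L F : Subgroup PP) := by
  let θ : Matrix.ProjectiveSpecialLinearGroup (Fin 2) K →* PP :=
    (MulAut.conj (mk' γ)).symm.toMonoidHom.comp
      ((DicksonField.pglMap f).comp Matrix.ProjectiveSpecialLinearGroup.toPGL)
  have hθ : Function.Injective θ := fun a b h =>
    Matrix.ProjectiveSpecialLinearGroup.toPGL_injective
      (DicksonField.pglMap_injective f ((MulAut.conj (mk' γ)).symm.injective h))
  rw [Nat.card_congr (MonoidHom.ofInjective hθ).toEquiv]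
  refine Subgroup.card_le_of_le ?_
  rintro _ ⟨s, rfl⟩
  refine ⟨⟨_, (MulEquiv.apply_symm_apply (MulAut.conj (mk' γ)) _).symm⟩, ?_⟩
  show θ s ∈ L F
  rw [← mem_L_iff_conj (γ := mk' γ)]
  show MulAut.conj (mk' γ) ((MulAut.conj (mk' γ)).symm _) ∈ L F
  rw [MulEquiv.apply_symm_apply]
  obtain ⟨X, rfl⟩ := KleinPSL.pi_surjective s
  refine ⟨KleinPSL.pi F (Matrix.SpecialLinearGroup.map f X), ?_⟩
  show mk' _ = mk' _
  congr 1
  exact Units.ext (Matrix.ext fun _ _ => rfl)

end sub

end Cfsg.Agent.Forms.DicksonPGL
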