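import Mathlib
import Cfsg.Agent.Lib.Forms.DicksonPGL.Basic
import Cfsg.Agent.Lib.Forms.KleinSL2
import Cfsg.Agent.Lib.Forms.KleinPSL

/-!
# Klein four-groups of `PSL₂(q)` and their normalisers in `PGL₂(q)`
-/

set_option autoImplicit false
set_option linter.unusedSectionVars false

open scoped Classical

namespace Cfsg.Agent.Forms.DicksonPGL

open Matrix KleinSL2
open scoped MatrixGroups

variable {F : Type*} [Field F] [Fintype F]

local notation "PP" => Matrix.ProjGenLinGroup (Fin 2) F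
local notation "PG" => Matrix.ProjectiveSpecialLinearGroup (Fin 2) F
local notation "mk'" => Matrix.ProjGenLinGroup.mk (n := Fin 2) (R := F)
local notation "M2" => Matrix (Fin 2) (Fin 2) F

/-- standard data: `a² + b² = -1` with `a`, `b` in the prime field -/
structure StdPair (a b : F) : Prop where
  h2 : (2 : F) ≠ 0
  sum : a * a + b * b = -1
  nat : ∃ m n : ℕ, (m : F) = a ∧ (n : F) = b

theorem exists_stdPair (h2 : (2 : F) ≠ 0) : ∃ a b : F, StdPair a b := by
  obtain ⟨p, hp⟩ := CharP.exists F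
  haveI := hp
  haveI : Fact p.Prime := ⟨CharP.char_is_prime F p⟩
  obtain ⟨x, y, hxy⟩ := ZMod.sq_add_sq p (-1)
  refine ⟨((x.val : ℕ) : F), ((y.val : ℕ) : F), h2, ?_, _, _, rfl, rfl⟩
  have e : ((x.val * x.val + y.val * y.val + 1 : ℕ) : ZMod p) = 0 := by
    push_cast
    rw [ZMod.natCast_zmod_val, ZMod.natCast_zmod_val, ← pow_two, ← pow_two, hxy, neg_add_cancel]
  rw [CharP.cast_eq_zero_iff (ZMod p) p] at e
  have e' : ((x.val * x.val + y.val * y.val + 1 : ℕ) : F) = 0 := (CharP.cast_eq_zero_iff F p _).2 e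
  push_cast at e'
  linear_combination e'

theorem mk_mul_mk' (g h : GL (Fin 2) F) : mk' g * mk' h = mk' (g * h) := (map_mul _ _ _).symm

/-- equality in `PGL₂` up to a sign -/
theorem mk_eq_of_smul {g h : GL (Fin 2) F} {c : F} (hc : c ≠ 0) (e : (g : M2) = c • (h : M2)) :
    mk' g = mk' h := by
  rw [Matrix.ProjGenLinGroup.mk_eq_mk_iff]
  refine ⟨Units.mk0 c⁻¹ (inv_ne_zero hc), Units.ext ?_⟩
  show (g : M2) * Matrix.scalar (Fin 2) c⁻¹ = h
  rw [Matrix.scalar_apply, ← Matrix.smul_one_eq_diagonal, mul_smul_comm, mul_one, e, smul_smul,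
    inv_mul_cancel₀ hc, one_smul]

theorem conj_eq_iff {g x y : GL (Fin 2) F} :
    mk' g * mk' x * (mk' g)⁻¹ = mk' y ↔ ∃ c : F, c ≠ 0 ∧ (g : M2) * x = c • ((y : M2) * g) := by
  rw [mul_inv_eq_iff_eq_mul, mk_mul_mk', mk_mul_mk']
  constructor
  · intro h
    obtain ⟨u, hu⟩ := Matrix.ProjGenLinGroup.mk_eq_mk_iff.1 h.symm
    refine ⟨(u : F), u.ne_zero, ?_⟩
    have := congrArg Units.val hu
    change ((y * g : GL (Fin 2) F) : M2) * Matrix.scalar (Fin 2) (u : F) = _ at this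
    rw [Matrix.scalar_apply, ← Matrix.smul_one_eq_diagonal, mul_smul_comm, mul_one] at this
    exact this.symm
  · rintro ⟨c, hc, e⟩
    exact mk_eq_of_smul hc e

section std

variable {a b : F} (h : StdPair a b)

/-- `B` -/
def bE : GL (Fin 2) F := GeneralLinearGroup.mkOfDetNeZero (aM a b) (by rw [det_aM, h.sum]; simp)

/-- `JB` -/
def cE : GL (Fin 2) F := GeneralLinearGroup.mkOfDetNeZero (aM (-b) a)
  (by rw [det_aM, show -b * -b + a * a = a * a + b * b by ring, h.sum]; simp)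

include h in
theorem det_cB : (aM (-b) a : M2).det = 1 := by
  rw [det_aM, show -b * -b + a * a = a * a + b * b by ring, h.sum]; simp

/-- `J` -/
def jE : GL (Fin 2) F := Matrix.SpecialLinearGroup.toGL (jSL : SL(2, F))

theorem coe_jE : ((jE : GL (Fin 2) F) : M2) = cM 0 1 := rfl
theorem coe_bE : ((bE h : GL (Fin 2) F) : M2) = aM a b := rfl
theorem coe_cE : ((cE h : GL (Fin 2) F) : M2) = aM (-b) a := rfl

/-- the swap fixing `J` -/
def sJ : GL (Fin 2) F := GeneralLinearGroup.mkOfDetNeZero (1 + cM 0 1 : M2) (by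
  have := h.h2
  simp [Matrix.det_fin_two, cM, one_add_one_eq_two, this])

/-- the swap fixing `B` -/
def sB : GL (Fin 2) F := GeneralLinearGroup.mkOfDetNeZero (1 + aM a b : M2) (by
  have := h.h2
  have e : (1 + aM a b : M2).det = 2 := by
    simp [Matrix.det_fin_two, aM]; linear_combination -h.sum
  rw [e]; exact this)

/-- the swap fixing `JB` -/
def sC : GL (Fin 2) F := GeneralLinearGroup.mkOfDetNeZero (1 + aM (-b) a : M2) (by
  have := h.h2
  have e : (1 + aM (-b) a : M2).det = 2 := by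
    simp [Matrix.det_fin_two, aM]; linear_combination -h.sum
  rw [e]; exact this)

theorem sJ_conj : mk' (sJ h) * mk' jE * (mk' (sJ h))⁻¹ = mk' jE ∧
    mk' (sJ h) * mk' (bE h) * (mk' (sJ h))⁻¹ = mk' (cE h) ∧
    mk' (sJ h) * mk' (cE h) * (mk' (sJ h))⁻¹ = mk' (bE h) := by
  refine ⟨conj_eq_iff.2 ⟨1, one_ne_zero, ?_⟩, conj_eq_iff.2 ⟨1, one_ne_zero, ?_⟩,
    conj_eq_iff.2 ⟨-1, neg_ne_zero.2 one_ne_zero, ?_⟩⟩ <;>
  · show _ * _ = _ • (_ * _)
    simp only [sJ, coe_jE, coe_bE, coe_cE, GeneralLinearGroup.val_mkOfDetNeZero]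
    ext i j
    fin_cases i <;> fin_cases j <;> simp [cM, aM, Matrix.one_fin_two, Matrix.mul_apply, Fin.sum_univ_two] <;> ring

theorem sC_conj : mk' (sC h) * mk' jE * (mk' (sC h))⁻¹ = mk' (bE h) ∧
    mk' (sC h) * mk' (bE h) * (mk' (sC h))⁻¹ = mk' jE ∧
    mk' (sC h) * mk' (cE h) * (mk' (sC h))⁻¹ = mk' (cE h) := by
  refine ⟨conj_eq_iff.2 ⟨1, one_ne_zero, ?_⟩, conj_eq_iff.2 ⟨-1, neg_ne_zero.2 one_ne_zero, ?_⟩,
    conj_eq_iff.2 ⟨1, one_ne_zero, ?_⟩⟩ <;>
  · show _ * _ = _ • (_ * _)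
    simp only [sC, coe_jE, coe_bE, coe_cE, GeneralLinearGroup.val_mkOfDetNeZero]
    ext i j
    fin_cases i <;> fin_cases j <;> simp [cM, aM, Matrix.one_fin_two, Matrix.mul_apply, Fin.sum_univ_two] <;>
      first | linear_combination h.sum | linear_combination -h.sum | ring

theorem sB_conj : mk' (sB h) * mk' jE * (mk' (sB h))⁻¹ = mk' (cE h) ∧
    mk' (sB h) * mk' (bE h) * (mk' (sB h))⁻¹ = mk' (bE h) ∧
    mk' (sB h) * mk' (cE h) * (mk' (sB h))⁻¹ = mk' jE := by
  refine ⟨conj_eq_iff.2 ⟨-1, neg_ne_zero.2 one_ne_zero, ?_⟩, conj_eq_iff.2 ⟨1, one_ne_zero, ?_⟩,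
    conj_eq_iff.2 ⟨1, one_ne_zero, ?_⟩⟩ <;>
  · show _ * _ = _ • (_ * _)
    simp only [sB, coe_jE, coe_bE, coe_cE, GeneralLinearGroup.val_mkOfDetNeZero]
    ext i j
    fin_cases i <;> fin_cases j <;> simp [cM, aM, Matrix.one_fin_two, Matrix.mul_apply, Fin.sum_univ_two] <;>
      first | linear_combination h.sum | linear_combination -h.sum | ring

/-- the Klein group with its six coset representatives, as a set -/
def octa : Set PP :=
  {x | ∃ u ∈ ({1, mk' jE, mk' (bE h), mk' (cE h)} : Set PP),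
    ∃ s ∈ ({1, mk' (sJ h), mk' (sB h), mk' (sC h), mk' (sC h) * mk' (sJ h), mk' (sB h) * mk' (sJ h)} : Set PP),
      x = s * u}

theorem fix_both {g : PP} (hJ : g * mk' jE * g⁻¹ = mk' jE) (hB : g * mk' (bE h) * g⁻¹ = mk' (bE h)) :
    g ∈ ({1, mk' jE, mk' (bE h), mk' (cE h)} : Set PP) := by
  obtain ⟨G, rfl⟩ := Matrix.ProjGenLinGroup.mk_surjective g
  obtain ⟨c, hc, eJ⟩ := conj_eq_iff.1 hJ
  obtain ⟨d, hd, eB⟩ := conj_eq_iff.1 hB
  have sq : ∀ (u : F) (Z : M2), Z.det ≠ 0 → (G : M2) * Z = u • (Z * (G : M2)) → u = 1 ∨ u = -1 := by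
    intro u Z hZ e
    have := congrArg Matrix.det e
    rw [Matrix.det_smul, Matrix.det_mul, Matrix.det_mul, Fintype.card_fin, mul_comm Z.det,
      eq_comm, mul_eq_right₀ (mul_ne_zero G.det_ne_zero hZ), pow_two] at this
    exact mul_self_eq_one_iff.1 this
  have h4 : ∀ u : GL (Fin 2) F, mk' (G * u⁻¹) = 1 → mk' G = mk' u := fun u e => by
    rwa [map_mul, map_inv, mul_inv_eq_one] at e
  have scal : ∀ {N : M2}, N * cM 0 1 = cM 0 1 * N → N * aM a b = aM a b * N → ∃ r : F, N = r • 1 := by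
    intro N h1 h2
    rw [eq_cM_of_comm h1] at h2 ⊢
    have e00 := congrFun (congrFun h2 0) 0
    have e01 := congrFun (congrFun h2 0) 1
    simp [cM, aM, Matrix.one_fin_two, Matrix.mul_apply, Fin.sum_univ_two] at e00 e01
    have k : (2 : F) * (N 1 0 * (a * a + b * b)) = 0 := by linear_combination a * e01 - b * e00
    rw [h.sum] at k
    have k' : N 1 0 = 0 := by simpa [h.h2] using k
    refine ⟨N 0 0, ?_⟩
    ext i j
    fin_cases i <;> fin_cases j <;> simp [cM, k']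
  -- multiply by an element of the Klein group
  have reduce : ∀ U : M2, U.det ≠ 0 → (U * cM 0 1 = c • (cM 0 1 * U)) → (U * aM a b = d • (aM a b * U)) →
      ∃ r : F, (G : M2) = r • U := by
    intro U hU e1 e2
    have hUu : IsUnit U.det := isUnit_iff_ne_zero.2 hU
    set V := U⁻¹ with hV
    have hUV : U * V = 1 := Matrix.mul_nonsing_inv U hUu
    have hVU : V * U = 1 := Matrix.nonsing_inv_mul U hUu
    have key : ∀ (Z : M2) (u : F), u ≠ 0 → U * Z = u • (Z * U) → (G : M2) * Z = u • (Z * (G : M2)) →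
        V * (G : M2) * Z = Z * (V * (G : M2)) := by
      intro Z u hu eU eG
      rw [mul_assoc, eG, mul_smul_comm, ← mul_assoc, ← mul_assoc]
      have e4 : u • (V * Z) = Z * V := by
        have := congrArg (fun T => V * T * V) eU
        simp only [mul_smul_comm, smul_mul_assoc, ← mul_assoc, hVU, one_mul] at this
        rw [mul_assoc (V * Z) U V, hUV, mul_one] at this
        exact this.symm
      rw [← smul_mul_assoc, e4]
    obtain ⟨r, hr⟩ := scal (key _ c hc e1 eJ) (key _ d hd e2 eB)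
    refine ⟨r, ?_⟩
    rw [← one_mul (G : M2), ← hUV, mul_assoc, hr, mul_smul_comm, mul_one]
  have done' : ∀ u : GL (Fin 2) F, (∃ r : F, (G : M2) = r • (u : M2)) → mk' G = mk' u := by
    rintro u ⟨r, hr⟩
    exact mk_eq_of_smul (fun e => Units.ne_zero G (by rw [hr, e, zero_smul])) hr
  have hJd : (cM 0 1 : M2).det ≠ 0 := by rw [det_cM]; simp
  have hBd : (aM a b : M2).det ≠ 0 := by rw [det_aM, h.sum]; simp
  rcases sq c (cM 0 1) hJd eJ with rfl | rfl <;> rcases sq d (aM a b) hBd eB with rfl | rfl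
  · exact Or.inl ((done' 1 (reduce 1 (by simp) (by simp) (by simp))).trans (map_one _))
  · refine Or.inr (Or.inl (done' jE (reduce (cM 0 1) hJd (by simp) ?_)))
    rw [neg_one_smul, aM_mul_J, neg_neg]
  · refine Or.inr (Or.inr (Or.inl (done' (bE h) (reduce (aM a b) hBd ?_ (by simp)))))
    rw [neg_one_smul, aM_mul_J]
  · refine Or.inr (Or.inr (Or.inr (done' (cE h) (reduce (aM (-b) a) (by rw [det_cB h]; exact one_ne_zero) ?_ ?_))))
    · rw [neg_one_smul, aM_mul_J]
    · ext i j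
      fin_cases i <;> fin_cases j <;> simp [cM, aM, Matrix.one_fin_two, Matrix.mul_apply, Fin.sum_univ_two] <;> ring

theorem klein_mul (x : PP) (hx : x ∈ ({mk' jE, mk' (bE h), mk' (cE h)} : Set PP)) :
    x * x = 1 := by
  have key : ∀ (g : GL (Fin 2) F) (r : F), (g : M2) * g = r • 1 → mk' g * mk' g = 1 := by
    intro g r e
    rw [mk_mul_mk', ← map_one (mk')]
    refine mk_eq_of_smul (c := r) (fun e0 => Units.ne_zero (g * g) ?_) ?_
    · rw [Units.val_mul, e, e0, zero_smul]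
    · rw [Units.val_mul, e, Units.val_one]
  rcases hx with rfl | rfl | rfl
  · refine key _ (-1) ?_
    rw [coe_jE, cM_mul]
    ext i j
    fin_cases i <;> fin_cases j <;> simp [cM]
  · exact key _ _ (aM_mul_self a b)
  · exact key _ _ (aM_mul_self _ _)

/-- the set `S` of the three involutions of the standard Klein group -/
def three : Set PP := {mk' jE, mk' (bE h), mk' (cE h)}

theorem mem_octa {g : PP} (hJ : g * mk' jE * g⁻¹ ∈ three h) (hB : g * mk' (bE h) * g⁻¹ ∈ three h) :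
    g ∈ octa h := by
  obtain ⟨a1, a2, a3⟩ := sJ_conj h
  obtain ⟨b1, b2, b3⟩ := sB_conj h
  obtain ⟨c1, c2, c3⟩ := sC_conj h
  have hne : mk' (bE h) ≠ mk' jE := by
    intro e
    obtain ⟨u, hu⟩ := Matrix.ProjGenLinGroup.mk_eq_mk_iff.1 e
    have := congrArg Units.val hu
    change aM a b * Matrix.scalar (Fin 2) (u : F) = cM 0 1 at this
    have e01 := congrFun (congrFun this 0) 1
    have e10 := congrFun (congrFun this 1) 0
    simp [aM, cM, Matrix.mul_apply] at e01 e10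
    exact h.h2 (by linear_combination e01 - e10)
  -- after a swap the element fixes `J`
  have step1 : ∀ g : PP, g * mk' jE * g⁻¹ = mk' jE → g * mk' (bE h) * g⁻¹ ∈ three h →
      ∃ s ∈ ({1, mk' (sJ h)} : Set PP), ∃ u ∈ ({1, mk' jE, mk' (bE h), mk' (cE h)} : Set PP), g = s * u := by
    intro g h1 h2
    rcases h2 with h2 | h2 | h2
    · refine absurd ?_ hne
      have := h2.trans h1.symm
      simpa using this
    · exact ⟨1, Or.inl rfl, g, fix_both h h1 h2, (one_mul g).symm⟩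
    · refine ⟨mk' (sJ h), Or.inr rfl, (mk' (sJ h))⁻¹ * g, fix_both h ?_ ?_, (mul_inv_cancel_left _ g).symm⟩
      · rw [_root_.mul_inv_rev, inv_inv]
        calc (mk' (sJ h))⁻¹ * g * mk' jE * (g⁻¹ * mk' (sJ h))
            = (mk' (sJ h))⁻¹ * (g * mk' jE * g⁻¹) * mk' (sJ h) := by group
          _ = (mk' (sJ h))⁻¹ * (mk' (sJ h) * mk' jE * (mk' (sJ h))⁻¹) * mk' (sJ h) := by rw [h1, a1]
          _ = mk' jE := by group
      · rw [_root_.mul_inv_rev, inv_inv]
        calc (mk' (sJ h))⁻¹ * g * mk' (bE h) * (g⁻¹ * mk' (sJ h))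
            = (mk' (sJ h))⁻¹ * (g * mk' (bE h) * g⁻¹) * mk' (sJ h) := by group
          _ = (mk' (sJ h))⁻¹ * (mk' (sJ h) * mk' (bE h) * (mk' (sJ h))⁻¹) * mk' (sJ h) := by
              rw [h2, a2]
          _ = mk' (bE h) := by group
  have mem3 : ∀ s : PP, (s * mk' jE * s⁻¹ ∈ three h ∧ s * mk' (bE h) * s⁻¹ ∈ three h ∧
      s * mk' (cE h) * s⁻¹ ∈ three h) → ∀ x ∈ three h, s * x * s⁻¹ ∈ three h := by
    rintro s ⟨q1, q2, q3⟩ x (rfl | rfl | rfl) <;> assumption
  -- a swap `s` moving `J` to `T`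
  have move : ∀ (s : PP) (T : PP), s * mk' jE * s⁻¹ = T → g * mk' jE * g⁻¹ = T →
      (∀ x ∈ three h, s⁻¹ * x * s ∈ three h) → ∃ t ∈ ({1, mk' (sJ h)} : Set PP),
        ∃ u ∈ ({1, mk' jE, mk' (bE h), mk' (cE h)} : Set PP), g = s * t * u := by
    intro s T hs hg hin
    obtain ⟨t, ht, u, hu, e⟩ := step1 (s⁻¹ * g)
      (by
        calc s⁻¹ * g * mk' jE * (s⁻¹ * g)⁻¹ = s⁻¹ * (g * mk' jE * g⁻¹) * s := by group
          _ = s⁻¹ * (s * mk' jE * s⁻¹) * s := by rw [hg, hs]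
          _ = mk' jE := by group)
      (by
        have := hin _ hB
        convert this using 1; group)
    exact ⟨t, ht, u, hu, by rw [mul_assoc, ← e, mul_inv_cancel_left]⟩
  have inv3 : ∀ s : PP, s * mk' jE * s⁻¹ ∈ three h → s * mk' (bE h) * s⁻¹ ∈ three h →
      s * mk' (cE h) * s⁻¹ ∈ three h → ∀ x ∈ three h, s⁻¹ * x * s ∈ three h := by
    intro s q1 q2 q3 x hx
    have hfin : (three h).Finite := Set.toFinite _
    have hmap : Set.MapsTo (fun y => s * y * s⁻¹) (three h) (three h) := fun y hy => mem3 s ⟨q1, q2, q3⟩ y hy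
    have hinj : Set.InjOn (fun y => s * y * s⁻¹) (three h) := fun y _ z _ e => by simpa using e
    obtain ⟨y, hy, hyx⟩ := (hfin.injOn_iff_bijOn_of_mapsTo hmap).1 hinj |>.surjOn hx
    rw [← hyx]
    convert hy using 1
    group
  rcases hJ with hJ | hJ | hJ
  · obtain ⟨t, ht, u, hu, e⟩ := step1 g hJ hB
    refine ⟨u, hu, t, ?_, e⟩
    rcases ht with rfl | rfl <;> simp
  · obtain ⟨t, ht, u, hu, e⟩ := move _ _ c1 hJ
      (inv3 _ (by rw [c1]; exact Or.inr (Or.inl rfl)) (by rw [c2]; exact Or.inl rfl)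
        (by rw [c3]; exact Or.inr (Or.inr rfl)))
    refine ⟨u, hu, _, ?_, e⟩
    rcases ht with rfl | rfl <;> simp
  · obtain ⟨t, ht, u, hu, e⟩ := move _ _ b1 hJ
      (inv3 _ (by rw [b1]; exact Or.inr (Or.inr rfl)) (by rw [b2]; exact Or.inr (Or.inl rfl))
        (by rw [b3]; exact Or.inl rfl))
    refine ⟨u, hu, _, ?_, e⟩
    rcases ht with rfl | rfl <;> simp

end std

end Cfsg.Agent.Forms.DicksonPGL
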