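import Mathlib
import Cfsg.Agent.Lib.Forms.DicksonPGL.Four

/-!
# The normaliser of a Klein four-group
-/

set_option autoImplicit false
set_option linter.unusedSectionVars false

open scoped Classical

namespace Cfsg.Agent.Forms.DicksonPGL

open Matrix KleinSL2
open scoped MatrixGroups

variable {F : Type*} [Field F] [Fintype F]

local notation "PP" => Matrix.ProjGenLinGroup (Fin 2) F
local notation "PG" => Matrix.ProjectiveSpecialLinearGroup (Fin 2) F
local notation "mk'" => Matrix.ProjGenLinGroup.mk (n := Fin 2) (R := F)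
local notation "M2" => Matrix (Fin 2) (Fin 2) F

theorem jb_mul {a b : F} (h : StdPair a b) : mk' jE * mk' (bE h) = mk' (cE h) := by
  rw [mk_mul_mk']
  refine mk_eq_of_smul one_ne_zero ?_
  rw [one_smul, Units.val_mul, coe_jE, coe_bE, coe_cE]
  ext i j
  fin_cases i <;> fin_cases j <;> simp [cM, aM, Matrix.mul_apply, Fin.sum_univ_two]

theorem mk_mem_range_of_entries {K : Type*} [Field K] (f : K →+* F) (g : GL (Fin 2) F)
    (hg : ∀ i j, (g : M2) i j ∈ f.fieldRange) : mk' g ∈ (DicksonField.pglMap f).range := by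
  choose N hN using fun i j => (hg i j : (g : M2) i j ∈ f.fieldRange)
  have e : (Matrix.of N).map f = (g : M2) := Matrix.ext fun i j => hN i j
  have hd : (Matrix.of N).det ≠ 0 := fun h0 => g.det_ne_zero (by
    rw [← e, ← RingHom.mapMatrix_apply, ← RingHom.map_det, h0, map_zero])
  refine ⟨Matrix.ProjGenLinGroup.mk (GeneralLinearGroup.mkOfDetNeZero (Matrix.of N) hd), ?_⟩
  rw [DicksonField.pglMap_mk]
  exact congrArg mk' (Units.ext e)

theorem octa_subset_range {a b : F} (h : StdPair a b) {K : Type*} [Field K] (f : K →+* F) :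
    octa h ⊆ ((DicksonField.pglMap f).range : Set PP) := by
  obtain ⟨m, n, ha, hb⟩ := h.nat
  have S1 : (1 : F) ∈ f.fieldRange := one_mem _
  have S0 : (0 : F) ∈ f.fieldRange := zero_mem _
  have Sa : a ∈ f.fieldRange := ha ▸ natCast_mem _ m
  have Sb : b ∈ f.fieldRange := hb ▸ natCast_mem _ n
  have Sna : -a ∈ f.fieldRange := neg_mem Sa
  have Snb : -b ∈ f.fieldRange := neg_mem Sb
  have Sn1 : (-1 : F) ∈ f.fieldRange := neg_mem S1
  have key : ∀ g : GL (Fin 2) F, (∀ i j, (g : M2) i j ∈ f.fieldRange) →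
      mk' g ∈ (DicksonField.pglMap f).range := mk_mem_range_of_entries f
  have pJ : mk' jE ∈ (DicksonField.pglMap f).range := key _ fun i j => by
    rw [coe_jE]; fin_cases i <;> fin_cases j <;> simp [cM]
  have pB : mk' (bE h) ∈ (DicksonField.pglMap f).range := key _ fun i j => by
    rw [coe_bE]; fin_cases i <;> fin_cases j <;> simp [aM] <;> assumption
  have pC : mk' (cE h) ∈ (DicksonField.pglMap f).range := key _ fun i j => by
    rw [coe_cE]; fin_cases i <;> fin_cases j <;> simp [aM] <;> assumption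
  have qJ : mk' (sJ h) ∈ (DicksonField.pglMap f).range := key _ fun i j => by
    fin_cases i <;> fin_cases j <;> simp [sJ, cM, Matrix.one_fin_two]
  have qB : mk' (sB h) ∈ (DicksonField.pglMap f).range := key _ fun i j => by
    fin_cases i <;> fin_cases j <;> simp [sB, aM, Matrix.one_fin_two] <;>
      first | assumption | exact add_mem S1 Sa | exact add_mem S1 Sna | exact sub_mem S1 Sa
  have qC : mk' (sC h) ∈ (DicksonField.pglMap f).range := key _ fun i j => by
    fin_cases i <;> fin_cases j <;> simp [sC, aM, Matrix.one_fin_two] <;>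
      first | assumption | exact add_mem S1 Sb | exact add_mem S1 Snb | exact sub_mem S1 Sb
  rintro x ⟨u, hu, s, hs, rfl⟩
  refine mul_mem ?_ ?_
  · rcases hs with rfl | rfl | rfl | rfl | rfl | rfl
    exacts [one_mem _, qJ, qB, qC, mul_mem qC qJ, mul_mem qB qJ]
  · rcases hu with rfl | rfl | rfl | rfl
    exacts [one_mem _, pJ, pB, pC]

theorem ncard_octa_le {a b : F} (h : StdPair a b) : (octa h).ncard ≤ 24 := by
  let U : Finset PP := {1, mk' jE, mk' (bE h), mk' (cE h)}
  let S : Finset PP :=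
    {1, mk' (sJ h), mk' (sB h), mk' (sC h), mk' (sC h) * mk' (sJ h), mk' (sB h) * mk' (sJ h)}
  have hsub : octa h ⊆ ((S ×ˢ U).image fun z => z.1 * z.2 : Finset PP) := by
    rintro x ⟨u, hu, s, hs, rfl⟩
    simp only [Finset.coe_image, Set.mem_image, Finset.mem_coe]
    refine ⟨(s, u), Finset.mem_product.2 ⟨?_, ?_⟩, rfl⟩
    · rcases hs with rfl | rfl | rfl | rfl | rfl | rfl <;> simp [S]
    · rcases hu with rfl | rfl | rfl | rfl <;> simp [U]
  refine (Set.ncard_le_ncard hsub (Finset.finite_toSet _)).trans ?_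
  rw [Set.ncard_coe_finset]
  refine Finset.card_image_le.trans ?_
  rw [Finset.card_product]
  exact Nat.mul_le_mul Finset.card_le_six Finset.card_le_four

/-- a coordinate system for the Klein group generated by `x`, `y` -/
structure Frame (x y : PP) (γ : GL (Fin 2) F) (a b : F) : Prop where
  std : StdPair a b
  hx : mk' γ * x * (mk' γ)⁻¹ = mk' jE
  hy : mk' γ * y * (mk' γ)⁻¹ = mk' (bE std)

theorem exists_frame (h2 : (2 : F) ≠ 0) {x y : PG} (hx : orderOf x = 2) (hy : orderOf y = 2)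
    (hne : x ≠ y) (hc : Commute x y) :
    ∃ (γ : GL (Fin 2) F) (a b : F), Frame (Matrix.ProjectiveSpecialLinearGroup.toPGL x)
      (Matrix.ProjectiveSpecialLinearGroup.toPGL y) γ a b := by
  obtain ⟨A, rfl⟩ := KleinPSL.pi_surjective x
  obtain ⟨B, rfl⟩ := KleinPSL.pi_surjective y
  have hA := (KleinPSL.orderOf_pi_eq_two h2).1 hx
  have hB := (KleinPSL.orderOf_pi_eq_two h2).1 hy
  have hanti := KleinPSL.anti_of_comm h2 hA hB hne hc
  obtain ⟨g, hg⟩ := exists_conj_j h2 hA
  obtain ⟨a, b, h⟩ := exists_stdPair h2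
  set B' := g⁻¹ * B * g with hB'
  have hB'anti : B' * jSL = -(jSL * B') := by
    have h1 : (jSL : SL(2, F)) = g⁻¹ * A * g := by rw [← hg]; group
    rw [h1, hB']
    calc g⁻¹ * B * g * (g⁻¹ * A * g) = g⁻¹ * (B * A) * g := by group
      _ = g⁻¹ * (-(A * B)) * g := by rw [hanti]
      _ = -(g⁻¹ * (A * B) * g) := by rw [mul_neg, neg_mul]
      _ = _ := by congr 1; group
  have hm := eq_aM_of_anti (F := F) (congrArg Subtype.val hB'anti :)
  set u := (B' : M2) 0 0
  set v := (B' : M2) 0 1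
  have huv : u * u + v * v = -1 := by
    have := B'.2
    rw [hm, det_aM] at this
    linear_combination -this
  -- rotate `B'` to the standard `B`
  obtain ⟨k, hkJ, hkB⟩ : ∃ k : GL (Fin 2) F, mk' k * mk' jE * (mk' k)⁻¹ = mk' jE ∧
      mk' k * mk' (Matrix.SpecialLinearGroup.toGL B') * (mk' k)⁻¹ = mk' (bE h) := by
    by_cases hd : (1 - aM a b * aM u v : M2).det = 0
    · refine ⟨jE, by group, conj_eq_iff.2 ⟨1, one_ne_zero, ?_⟩⟩
      have hz : aM a b * aM u v = cM (a * u + b * v) (b * u - a * v) := by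
        ext i j
        fin_cases i <;> fin_cases j <;> simp [cM, aM, Matrix.mul_apply, Fin.sum_univ_two] <;> ring
      have hnorm : (a * u + b * v) * (a * u + b * v) + (b * u - a * v) * (b * u - a * v) = 1 := by
        linear_combination (u * u + v * v) * h.sum - huv
      have hc1 : a * u + b * v = 1 := by
        rw [hz] at hd
        simp [Matrix.det_fin_two, cM] at hd
        have : (2 : F) * (1 - (a * u + b * v)) = 0 := by linear_combination hd - hnorm
        exact (sub_eq_zero.1 ((mul_eq_zero.1 this).resolve_left h.h2)).symm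
      have hc2 : b * u - a * v = 0 := mul_self_eq_zero.1 (by
        linear_combination hnorm - (a * u + b * v + 1) * hc1)
      have hu : u = -a := by linear_combination -a * hc1 - b * hc2 + u * h.sum
      have hv : v = -b := by linear_combination -b * hc1 + a * hc2 + v * h.sum
      show _ * (B' : M2) = _ • (_ * _)
      rw [hm, hu, hv, coe_jE, coe_bE]
      ext i j
      fin_cases i <;> fin_cases j <;> simp [cM, aM, Matrix.mul_apply, Fin.sum_univ_two]
    · refine ⟨GeneralLinearGroup.mkOfDetNeZero _ hd, conj_eq_iff.2 ⟨1, one_ne_zero, ?_⟩,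
        conj_eq_iff.2 ⟨1, one_ne_zero, ?_⟩⟩
      · rw [one_smul, GeneralLinearGroup.val_mkOfDetNeZero, coe_jE, sub_mul, mul_sub, one_mul, mul_one,
          mul_assoc, aM_mul_J, mul_neg, ← mul_assoc, aM_mul_J, neg_mul, neg_neg, mul_assoc]
      · show _ * (B' : M2) = _ • (_ * _)
        rw [one_smul, GeneralLinearGroup.val_mkOfDetNeZero, coe_bE, hm, sub_mul, mul_sub, one_mul, mul_one,
          mul_assoc, aM_mul_self u v, huv, ← mul_assoc (aM a b) (aM a b) (aM u v), aM_mul_self a b, h.sum]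
        simp [sub_neg_eq_add, add_comm]
  refine ⟨k * (Matrix.SpecialLinearGroup.toGL g)⁻¹, a, b, h, ?_, ?_⟩
  · rw [map_mul, map_inv, _root_.mul_inv_rev, inv_inv, toPGL_pi, ← hg, map_mul, map_mul, map_mul, map_mul,
      map_inv, map_inv]
    calc _ = mk' k * mk' jE * (mk' k)⁻¹ := by rw [jE]; group
      _ = _ := hkJ
  · rw [map_mul, map_inv, _root_.mul_inv_rev, inv_inv, toPGL_pi]
    calc _ = mk' k * ((mk' (Matrix.SpecialLinearGroup.toGL g))⁻¹ * mk' (Matrix.SpecialLinearGroup.toGL B) *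
          mk' (Matrix.SpecialLinearGroup.toGL g)) * (mk' k)⁻¹ := by group
      _ = _ := by rw [← hkB, hB', map_mul, map_mul, map_mul, map_mul, map_inv, map_inv]

/-- the stabiliser of the three involutions -/
def nFour (x y : PP) : Subgroup PP where
  carrier := {g | ∀ z, z ∈ ({x, y, x * y} : Set PP) ↔ g * z * g⁻¹ ∈ ({x, y, x * y} : Set PP)}
  one_mem' := fun z => by simp
  mul_mem' := fun {g g'} hg hg' z => by
    rw [hg' z, hg (g' * z * g'⁻¹), show g * (g' * z * g'⁻¹) * g⁻¹ = g * g' * z * (g * g')⁻¹ by group]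
  inv_mem' := fun {g} hg z => by
    rw [hg (g⁻¹ * z * g⁻¹⁻¹), show g * (g⁻¹ * z * g⁻¹⁻¹) * g⁻¹ = z by group]

theorem mem_nFour {x y g : PP} : g ∈ nFour x y ↔
    ∀ z, z ∈ ({x, y, x * y} : Set PP) ↔ g * z * g⁻¹ ∈ ({x, y, x * y} : Set PP) := Iff.rfl

theorem mem_nFour_of_maps {x y g : PP} (h : ∀ z ∈ ({x, y, x * y} : Set PP),
    g * z * g⁻¹ ∈ ({x, y, x * y} : Set PP)) : g ∈ nFour x y := by
  rw [mem_nFour]
  refine fun z => ⟨h z, fun hz => ?_⟩
  obtain ⟨w, hw, hwz⟩ := ((Set.toFinite ({x, y, x * y} : Set PP)).injOn_iff_bijOn_of_mapsTo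
    (f := fun w => g * w * g⁻¹) h).1 (fun w _ w' _ e => by simpa using e) |>.surjOn hz
  rwa [show z = w by simpa using hwz.symm]

section frame

variable {γ : GL (Fin 2) F} {a b : F} {xx yy : Matrix.ProjGenLinGroup (Fin 2) F} (fr : Frame xx yy γ a b)

include fr

theorem Frame.image {g : PP} (hg : g ∈ nFour xx yy) : mk' γ * g * (mk' γ)⁻¹ ∈ octa fr.std := by
  have hxy : mk' γ * (xx * yy) * (mk' γ)⁻¹ = mk' (cE fr.std) := by
    rw [← jb_mul fr.std, ← fr.hx, ← fr.hy]; group
  have hT : ∀ z ∈ ({xx, yy, xx * yy} : Set PP), mk' γ * z * (mk' γ)⁻¹ ∈ three fr.std := by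
    rintro z (rfl | rfl | rfl)
    · rw [fr.hx]; exact Or.inl rfl
    · rw [fr.hy]; exact Or.inr (Or.inl rfl)
    · rw [hxy]; exact Or.inr (Or.inr rfl)
  refine mem_octa fr.std ?_ ?_
  · rw [← fr.hx]
    convert hT _ ((mem_nFour.1 hg xx).1 (Or.inl rfl)) using 1; group
  · rw [← fr.hy]
    convert hT _ ((mem_nFour.1 hg yy).1 (Or.inr (Or.inl rfl))) using 1; group

theorem Frame.le_sub {K : Type*} [Field K] (f : K →+* F) : nFour xx yy ≤ sub f γ :=
  fun _ hg => octa_subset_range fr.std f (fr.image hg)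

theorem Frame.natCard_le : Nat.card (nFour xx yy) ≤ 24 := by
  refine le_trans ?_ (ncard_octa_le fr.std)
  rw [← Nat.card_coe_set_eq]
  refine Nat.card_le_card_of_injective (fun g => (⟨_, fr.image g.2⟩ : octa fr.std)) ?_
  intro g g' e
  exact Subtype.ext (by simpa using congrArg Subtype.val e)

theorem Frame.fix_both' {g : PP} (h1 : g * xx * g⁻¹ = xx) (h2 : g * yy * g⁻¹ = yy) :
    g ∈ ({1, xx, yy, xx * yy} : Set PP) := by
  have key : ∀ {z : PP}, g * z * g⁻¹ = z →
      mk' γ * g * (mk' γ)⁻¹ * (mk' γ * z * (mk' γ)⁻¹) * (mk' γ * g * (mk' γ)⁻¹)⁻¹ =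
        mk' γ * z * (mk' γ)⁻¹ := fun {z} e => by
    conv_rhs => rw [← e]
    group
  have hm := fix_both fr.std (by rw [← fr.hx]; exact key h1) (by rw [← fr.hy]; exact key h2)
  have hinj : ∀ {z : PP}, mk' γ * g * (mk' γ)⁻¹ = mk' γ * z * (mk' γ)⁻¹ → g = z := fun e => by simpa using e
  rw [← jb_mul fr.std, ← fr.hx, ← fr.hy] at hm
  rcases hm with h | h | h | h
  · exact Or.inl (conj_eq_one_iff.1 h)
  · exact Or.inr (Or.inl (hinj h))
  · exact Or.inr (Or.inr (Or.inl (hinj h)))
  · exact Or.inr (Or.inr (Or.inr (hinj (h.trans (by group)))))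

theorem Frame.basic : xx * xx = 1 ∧ yy * yy = 1 ∧ xx * yy = yy * xx ∧ xx ≠ 1 ∧ yy ≠ 1 ∧ xx ≠ yy := by
  have hinj : Function.Injective fun z => mk' γ * z * (mk' γ)⁻¹ := fun _ _ e => by simpa using e
  have sq : ∀ {z w : PP}, mk' γ * z * (mk' γ)⁻¹ = w → w * w = 1 → z * z = 1 := fun {z w} e hw => by
    refine (conj_eq_one_iff (a := mk' γ)).1 ?_
    rw [← hw, ← e]; group
  have hx2 := sq fr.hx (klein_mul fr.std _ (Or.inl rfl))
  have hy2 := sq fr.hy (klein_mul fr.std _ (Or.inr (Or.inl rfl)))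
  have hxy2 : xx * yy * (xx * yy) = 1 := sq (z := xx * yy)
    (show mk' γ * (xx * yy) * (mk' γ)⁻¹ = mk' (cE fr.std) by rw [← jb_mul fr.std, ← fr.hx, ← fr.hy]; group)
    (klein_mul fr.std _ (Or.inr (Or.inr rfl)))
  have sc : ∀ (g : GL (Fin 2) F), mk' g = 1 → (g : M2) 0 1 = 0 ∧ (g : M2) 1 0 = 0 ∧
      (g : M2) 0 0 = (g : M2) 1 1 := by
    intro g hg
    rw [Matrix.ProjGenLinGroup.mk_eq_one, GeneralLinearGroup.center_eq_range_scalar] at hg
    obtain ⟨r, rfl⟩ := hg
    simp
  refine ⟨hx2, hy2, ?_, ?_, ?_, ?_⟩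
  · calc xx * yy = xx * yy * (xx * yy * (xx * yy))⁻¹ := by rw [hxy2, inv_one, mul_one]
      _ = yy⁻¹ * xx⁻¹ := by group
      _ = yy * xx := by rw [inv_eq_of_mul_eq_one_right hx2, inv_eq_of_mul_eq_one_right hy2]
  · rintro rfl
    have := (sc jE (by rw [← fr.hx]; group)).2.1
    simp [coe_jE, cM] at this
  · rintro rfl
    obtain ⟨h1, -, h3⟩ := sc (bE fr.std) (by rw [← fr.hy]; group)
    simp [coe_bE, aM] at h1 h3
    have h3' : (2 : F) * a = 0 := by linear_combination h3
    have := fr.std.sum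
    rw [h1, (mul_eq_zero.1 h3').resolve_left fr.std.h2] at this
    simp at this
  · rintro rfl
    have e' : mk' (cE fr.std) = 1 := by
      rw [← jb_mul, ← fr.hx, ← fr.hy]
      calc _ = mk' γ * (xx * xx) * (mk' γ)⁻¹ := by group
        _ = 1 := by rw [hx2]; group
    obtain ⟨h1, -, h3⟩ := sc (cE fr.std) e'
    simp [coe_cE, aM] at h1 h3
    have h3' : (2 : F) * b = 0 := by linear_combination -h3
    have := fr.std.sum
    rw [h1, (mul_eq_zero.1 h3').resolve_left fr.std.h2] at this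
    simp at this

end frame

end Cfsg.Agent.Forms.DicksonPGL
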