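import Mathlib
import Cfsg.Agent.Lib.Forms.DicksonPGL.FourNorm
import Cfsg.Agent.Lib.Forms.DicksonPGL.AltFacts
import Cfsg.Agent.Lib.Forms.DicksonDihedral

/-!
# An `A₅` lives over the field of `√5`
-/

set_option autoImplicit false
set_option linter.unusedSectionVars false

namespace Cfsg.Agent.Forms.DicksonPGL

open Matrix KleinSL2
open scoped MatrixGroups

variable {F : Type*} [Field F] [Fintype F]

local notation "PP" => Matrix.ProjGenLinGroup (Fin 2) F
local notation "PG" => Matrix.ProjectiveSpecialLinearGroup (Fin 2) F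
local notation "mk'" => Matrix.ProjGenLinGroup.mk (n := Fin 2) (R := F)
local notation "M2" => Matrix (Fin 2) (Fin 2) F

theorem trace_of_pow {Y : SL(2, F)} (h : KleinPSL.pi F Y ^ 2 = 1 ∨ KleinPSL.pi F Y ^ 3 = 1 ∨
    KleinPSL.pi F Y ^ 5 = 1) :
    let t := (Y : M2).trace
    t * t = 4 ∨ t = 0 ∨ t * t = 1 ∨ t ^ 4 - 3 * t ^ 2 + 1 = 0 := by
  intro t
  by_cases hsc : ∃ a : F, (Y : M2) = a • 1
  · obtain ⟨a, ha⟩ := hsc
    left
    have hd := Y.2
    rw [ha, Matrix.det_smul, Fintype.card_fin, Matrix.det_one, mul_one] at hd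
    simp only [t, ha, Matrix.trace_smul, Matrix.trace_one, Fintype.card_fin, smul_eq_mul]
    push_cast
    linear_combination 4 * hd
  push Not at hsc
  have h2 : (Y : M2) * Y = t • (Y : M2) - 1 := DicksonAction.sq_eq_trace Y
  have h3 : (Y : M2) * Y * Y = (t * t - 1) • (Y : M2) - t • 1 := by
    rw [h2, sub_mul, smul_mul_assoc, h2, one_mul]; module
  have h5 : (Y : M2) * Y * Y * Y * Y = (t ^ 4 - 3 * t ^ 2 + 1) • (Y : M2) - (t ^ 3 - 2 * t) • 1 := by
    rw [h3, sub_mul, sub_mul, smul_mul_assoc, smul_mul_assoc, smul_mul_assoc, smul_mul_assoc, one_mul,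
      h3, h2]
    module
  have key : ∀ (k : ℕ) (c d : F), KleinPSL.pi F Y ^ k = 1 →
      ((Y : M2) ^ k = c • (Y : M2) - d • 1) → c = 0 := by
    intro k c d hk e
    by_contra hc
    rw [← map_pow] at hk
    obtain ⟨s, hs⟩ : ∃ s : F, (Y : M2) ^ k = s • 1 := by
      rcases KleinPSL.pi_eq_one.1 hk with h | h
      · exact ⟨1, by rw [← Matrix.SpecialLinearGroup.coe_pow, h, Matrix.SpecialLinearGroup.coe_one, one_smul]⟩
      · exact ⟨-1, by rw [← Matrix.SpecialLinearGroup.coe_pow, h, Matrix.SpecialLinearGroup.coe_neg,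
          Matrix.SpecialLinearGroup.coe_one, neg_one_smul]⟩
    rw [hs, eq_sub_iff_add_eq, ← add_smul] at e
    exact hsc (c⁻¹ * (s + d)) (by rw [mul_smul, e, smul_smul, inv_mul_cancel₀ hc, one_smul])
  rcases h with h | h | h
  · exact Or.inr (Or.inl (key 2 t 1 h (by rw [pow_two, h2, one_smul])))
  · exact Or.inr (Or.inr (Or.inl (sub_eq_zero.1 (key 3 _ t h (by rw [pow_succ, pow_two, h3])))))
  · exact Or.inr (Or.inr (Or.inr (key 5 _ _ h (by rw [pow_succ, pow_succ, pow_succ, pow_two, h5]))))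

/-- an `A₅` in `PSL₂` is conjugate into any subfield subgroup containing the golden ratio -/
theorem alt5_le_sub (h2 : (2 : F) ≠ 0) (H : Subgroup (Matrix.ProjectiveSpecialLinearGroup (Fin 2) F))
    (e : H ≃* alternatingGroup (Fin 5)) :
    ∃ γ : GL (Fin 2) F, ∀ (K : Type) [Field K] (f : K →+* F),
      (∀ t : F, t ^ 4 - 3 * t ^ 2 + 1 = 0 → t ∈ f.fieldRange) →
      H.map Matrix.ProjectiveSpecialLinearGroup.toPGL ≤ sub f γ := by
  classical
  obtain ⟨x, y, hx, hy, hx1, hy1, hne, hc⟩ := alt5_four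
  have ho : ∀ z : alternatingGroup (Fin 5), z * z = 1 → z ≠ 1 → orderOf ((e.symm z : H) : PG) = 2 :=
    fun z hz hz1 => by
      rw [Subgroup.orderOf_coe, MulEquiv.orderOf_eq]
      exact orderOf_eq_prime (hp := ⟨Nat.prime_two⟩) (by rw [pow_two, hz]) hz1
  obtain ⟨γ, a, b, fr⟩ := exists_frame h2 (ho x hx hx1) (ho y hy hy1)
    (fun h => hne (e.symm.injective (Subtype.ext h)))
    (by show _ * _ = _ * _; rw [← Subgroup.coe_mul, ← Subgroup.coe_mul, ← map_mul, ← map_mul, hc])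
  refine ⟨γ, fun K _ f hf => ?_⟩
  suffices hinv : ∀ z : alternatingGroup (Fin 5), z * z = 1 →
      Matrix.ProjectiveSpecialLinearGroup.toPGL ((e.symm z : H) : PG) ∈ sub f γ by
    rintro _ ⟨g, hg, rfl⟩
    obtain ⟨u, v, hu, hv, huv⟩ := alt5_two_inv (e ⟨g, hg⟩)
    have : g = ((e.symm u : H) : PG) * ((e.symm v : H) : PG) := by
      rw [← Subgroup.coe_mul, ← map_mul, ← huv, MulEquiv.symm_apply_apply]
    rw [this, map_mul]
    exact mul_mem (hinv u hu) (hinv v hv)
  intro z hz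
  rcases eq_or_ne z 1 with rfl | hz1
  · rw [map_one, Subgroup.coe_one, map_one]; exact one_mem _
  obtain ⟨Z, hZ⟩ := KleinPSL.pi_surjective ((e.symm z : H) : PG)
  obtain ⟨A, hA⟩ := KleinPSL.pi_surjective ((e.symm x : H) : PG)
  obtain ⟨B, hB⟩ := KleinPSL.pi_surjective ((e.symm y : H) : PG)
  rw [← hZ]
  have hZ2 : Z * Z = -1 := (KleinPSL.orderOf_pi_eq_two h2).1 (hZ ▸ ho z hz hz1)
  have S1 : (1 : F) ∈ f.fieldRange := one_mem _
  have S2 : (2 : F) ∈ f.fieldRange := by
    have := add_mem S1 S1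
    rwa [one_add_one_eq_two] at this
  have tr : ∀ Y : SL(2, F), KleinPSL.pi F Y ∈ H → (Y : M2).trace ∈ f.fieldRange := by
    intro Y hY
    have hex := DicksonDihedral.alt5_exp (e ⟨_, hY⟩)
    have h' : ∀ k : ℕ, e ⟨_, hY⟩ ^ k = 1 → KleinPSL.pi F Y ^ k = 1 := fun k hk => by
      rw [← map_pow] at hk
      exact congrArg Subtype.val (e.injective (hk.trans (map_one e).symm))
    rcases trace_of_pow (hex.imp (h' 2) (Or.imp (h' 3) (h' 5))) with h | h | h | h
    · have h4 : ((Y : M2).trace - 2) * ((Y : M2).trace + 2) = 0 := by linear_combination h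
      rcases mul_eq_zero.1 h4 with h | h
      · rw [sub_eq_zero.1 h]; exact S2
      · rw [eq_neg_of_add_eq_zero_left h]; exact neg_mem S2
    · rw [h]; exact zero_mem _
    · rcases mul_self_eq_one_iff.1 h with h | h <;> rw [h]
      · exact S1
      · exact neg_mem S1
    · exact hf _ h
  have hm : ∀ Y : SL(2, F), KleinPSL.pi F Y ∈ H → KleinPSL.pi F (Y * Z) ∈ H := fun Y hY => by
    rw [map_mul, hZ]; exact mul_mem hY (e.symm z).2
  have hAm : KleinPSL.pi F A ∈ H := hA ▸ (e.symm x).2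
  have hBm : KleinPSL.pi F B ∈ H := hB ▸ (e.symm y).2
  -- move to standard coordinates
  set W := (γ : M2) * (Z : M2) * ((γ⁻¹ : GL (Fin 2) F) : M2) with hW
  set G' := ((γ⁻¹ : GL (Fin 2) F) : M2) with hG'
  have hgg : G' * (γ : M2) = 1 := by rw [hG', ← Units.val_mul, inv_mul_cancel, Units.val_one]
  have hW0 : W.trace = 0 := by
    rw [hW, Matrix.trace_mul_cycle, hgg, one_mul]
    have hh : (Z : M2).trace • (Z : M2) = 0 := by
      have := DicksonAction.sq_eq_trace Z
      rw [← Matrix.SpecialLinearGroup.coe_mul, hZ2, Matrix.SpecialLinearGroup.coe_neg,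
        Matrix.SpecialLinearGroup.coe_one] at this
      rw [eq_sub_iff_add_eq, neg_add_cancel] at this
      exact this.symm
    exact (smul_eq_zero.1 hh).resolve_right fun h0 => Units.ne_zero (Matrix.SpecialLinearGroup.toGL Z) h0
  have prod : ∀ (Y : SL(2, F)) (S : GL (Fin 2) F), mk' γ * mk' (Matrix.SpecialLinearGroup.toGL Y) * (mk' γ)⁻¹ = mk' S →
      ((S : M2).det = 1) → KleinPSL.pi F Y ∈ H → ((S : M2) * W).trace ∈ f.fieldRange := by
    intro Y S hS hd hY
    obtain ⟨c, hc0, hc⟩ := conj_eq_iff.1 hS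
    change (γ : M2) * (Y : M2) = _ at hc
    have hcc : c * c = 1 := by
      have := congrArg Matrix.det hc
      rw [Matrix.det_smul, Matrix.det_mul, Matrix.det_mul, Matrix.SpecialLinearGroup.det_coe, hd, mul_one,
        one_mul, Fintype.card_fin, pow_two] at this
      exact mul_right_cancel₀ γ.det_ne_zero (by rw [one_mul]; exact this.symm)
    have hcS : c ∈ f.fieldRange := by
      rcases mul_self_eq_one_iff.1 hcc with rfl | rfl
      · exact S1
      · exact neg_mem S1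
    have e1 : (S : M2) * W = c • ((γ : M2) * (Y : M2) * (Z : M2) * G') := by
      rw [hW, hc, smul_mul_assoc, smul_mul_assoc, smul_smul, hcc, one_smul]
      simp only [mul_assoc]
    rw [e1, Matrix.trace_smul, smul_eq_mul]
    refine mul_mem hcS ?_
    rw [mul_assoc (γ : M2) (Y : M2), Matrix.trace_mul_cycle, hgg, one_mul,
      ← Matrix.SpecialLinearGroup.coe_mul]
    exact tr _ (hm Y hY)
  have hxC : mk' γ * mk' (Matrix.SpecialLinearGroup.toGL A) * (mk' γ)⁻¹ = mk' jE := by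
    rw [← toPGL_pi, hA]; exact fr.hx
  have hyC : mk' γ * mk' (Matrix.SpecialLinearGroup.toGL B) * (mk' γ)⁻¹ = mk' (bE fr.std) := by
    rw [← toPGL_pi, hB]; exact fr.hy
  have t1 := prod A jE hxC (by rw [coe_jE, det_cM]; ring) hAm
  have t2 := prod B (bE fr.std) hyC (by rw [coe_bE, det_aM, fr.std.sum]; ring) hBm
  have t3 := prod (A * B) (cE fr.std) (by
    rw [map_mul, map_mul, ← jb_mul fr.std, ← hxC, ← hyC]; group) (by rw [coe_cE, det_cB fr.std])
    (by rw [map_mul]; exact mul_mem hAm hBm)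
  obtain ⟨m, n, ha, hb⟩ := fr.std.nat
  have Sa : a ∈ f.fieldRange := ha ▸ natCast_mem _ m
  have Sb : b ∈ f.fieldRange := hb ▸ natCast_mem _ n
  rw [Matrix.trace_fin_two] at hW0
  have traM : ∀ u v : F, (aM u v * W).trace = u * W 0 0 + v * W 1 0 + (v * W 0 1 + -(u * W 1 1)) := by
    intro u v
    rw [Matrix.trace_fin_two, Matrix.mul_apply, Matrix.mul_apply, Fin.sum_univ_two, Fin.sum_univ_two]
    simp [aM]
  have trcM : (cM 0 1 * W).trace = -W 1 0 + W 0 1 := by
    rw [Matrix.trace_fin_two, Matrix.mul_apply, Matrix.mul_apply, Fin.sum_univ_two, Fin.sum_univ_two]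
    simp [cM]
  rw [coe_jE, trcM] at t1
  rw [coe_bE, traM] at t2
  rw [coe_cE, traM, neg_mul b (W 0 0), neg_mul b (W 1 1), neg_neg] at t3
  have h11 : W 1 1 = -W 0 0 := eq_neg_of_add_eq_zero_right hW0
  rw [h11] at t2 t3
  have S2i : (2 : F)⁻¹ ∈ f.fieldRange := inv_mem S2
  have hsum := fr.std.sum
  have h00 : W 0 0 ∈ f.fieldRange := by
    have hh : W 0 0 = -(2⁻¹ * (a * (a * W 0 0 + b * W 1 0 + (b * W 0 1 + -(a * -W 0 0))) +
        (-b) * (-(b * W 0 0) + a * W 1 0 + (a * W 0 1 + b * -W 0 0)))) := by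
      field_simp
      linear_combination 2 * (W 0 0) * hsum
    rw [hh]
    exact neg_mem (mul_mem S2i (add_mem (mul_mem Sa t2) (mul_mem (neg_mem Sb) t3)))
  have hplus : W 1 0 + W 0 1 ∈ f.fieldRange := by
    have hh : W 1 0 + W 0 1 = -(b * (a * W 0 0 + b * W 1 0 + (b * W 0 1 + -(a * -W 0 0))) +
        a * (-(b * W 0 0) + a * W 1 0 + (a * W 0 1 + b * -W 0 0))) := by
      linear_combination (W 1 0 + W 0 1) * hsum
    rw [hh]
    exact neg_mem (add_mem (mul_mem Sb t2) (mul_mem Sa t3))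
  have h01 : W 0 1 ∈ f.fieldRange := by
    have hh : W 0 1 = 2⁻¹ * ((W 1 0 + W 0 1) + (-W 1 0 + W 0 1)) := by field_simp; ring
    rw [hh]; exact mul_mem S2i (add_mem hplus t1)
  have h10 : W 1 0 ∈ f.fieldRange := by
    have := sub_mem hplus h01
    rwa [add_sub_cancel_right] at this
  have hmem := mk_mem_range_of_entries f (γ * Matrix.SpecialLinearGroup.toGL Z * γ⁻¹) (fun i j => by
    show W i j ∈ f.fieldRange
    fin_cases i <;> fin_cases j
    exacts [h00, h01, h10, h11 ▸ neg_mem h00])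
  rw [map_mul, map_mul, map_inv] at hmem
  rw [mem_sub, toPGL_pi]
  exact hmem

end Cfsg.Agent.Forms.DicksonPGL
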