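import Mathlib
import Cfsg.Agent.Lib.Forms.DicksonPGL.FourNorm

/-!
# The orders of the normalisers of a Klein four-group
-/

set_option autoImplicit false
set_option linter.unusedSectionVars false

open scoped Classical

namespace Cfsg.Agent.Forms.DicksonPGL

open Matrix KleinSL2
open scoped MatrixGroups

variable {F : Type*} [Field F] [Fintype F]

local notation "PP" => Matrix.ProjGenLinGroup (Fin 2) F
local notation "mk'" => Matrix.ProjGenLinGroup.mk (n := Fin 2) (R := F)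

/-- conjugation on the three involutions -/
def rhoFour (G0 : Subgroup PP) (x y : PP) :
    (nFour x y ⊓ G0 : Subgroup PP) →* Equiv.Perm {z : PP // z ∈ ({x, y, x * y} : Set PP)} where
  toFun g :=
    { toFun := fun z => ⟨(g : PP) * z * (g : PP)⁻¹, (mem_nFour.1 g.2.1 z).1 z.2⟩
      invFun := fun z => ⟨(g : PP)⁻¹ * z * (g : PP), (mem_nFour.1 g.2.1 _).2 (by
        rw [show (g : PP) * ((g : PP)⁻¹ * z * g) * (g : PP)⁻¹ = z by group]; exact z.2)⟩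
      left_inv := fun z => Subtype.ext (show (g : PP)⁻¹ * ((g : PP) * z * (g : PP)⁻¹) * g = z by group)
      right_inv := fun z => Subtype.ext (show (g : PP) * ((g : PP)⁻¹ * z * g) * (g : PP)⁻¹ = z by group) }
  map_one' := by ext z; simp
  map_mul' g h := by
    ext z
    show ((g * h : (nFour x y ⊓ G0 : Subgroup PP)) : PP) * z * _ = (g : PP) * ((h : PP) * z * (h : PP)⁻¹) * (g : PP)⁻¹
    rw [Subgroup.coe_mul]; group

section frame

variable {γ : GL (Fin 2) F} {a b : F} {xx yy : Matrix.ProjGenLinGroup (Fin 2) F}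
  (fr : Frame xx yy γ a b)

include fr

theorem Frame.conj_mul : mk' γ * (xx * yy) * (mk' γ)⁻¹ = mk' (cE fr.std) := by
  rw [← jb_mul fr.std, ← fr.hx, ← fr.hy]; group

/-- pull an element of the standard normaliser back -/
theorem Frame.pull {s T1 T2 T3 : PP} (h1 : s * mk' jE * s⁻¹ = mk' γ * T1 * (mk' γ)⁻¹)
    (h2 : s * mk' (bE fr.std) * s⁻¹ = mk' γ * T2 * (mk' γ)⁻¹)
    (h3 : s * mk' (cE fr.std) * s⁻¹ = mk' γ * T3 * (mk' γ)⁻¹) :
    (mk' γ)⁻¹ * s * mk' γ * xx * ((mk' γ)⁻¹ * s * mk' γ)⁻¹ = T1 ∧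
    (mk' γ)⁻¹ * s * mk' γ * yy * ((mk' γ)⁻¹ * s * mk' γ)⁻¹ = T2 ∧
    (mk' γ)⁻¹ * s * mk' γ * (xx * yy) * ((mk' γ)⁻¹ * s * mk' γ)⁻¹ = T3 := by
  have key : ∀ {z w T : PP}, mk' γ * z * (mk' γ)⁻¹ = w → s * w * s⁻¹ = mk' γ * T * (mk' γ)⁻¹ →
      (mk' γ)⁻¹ * s * mk' γ * z * ((mk' γ)⁻¹ * s * mk' γ)⁻¹ = T := by
    intro z w T hz hs
    calc _ = (mk' γ)⁻¹ * (s * (mk' γ * z * (mk' γ)⁻¹) * s⁻¹) * mk' γ := by group
      _ = T := by rw [hz, hs]; group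
  exact ⟨key fr.hx h1, key fr.hy h2, key fr.conj_mul h3⟩

theorem Frame.twelve_dvd (hxL : xx ∈ L F) (hyL : yy ∈ L F) {G0 : Subgroup PP} (hG : L F ≤ G0) :
    12 ≤ Nat.card (nFour xx yy ⊓ G0 : Subgroup PP) ∧
      ((mk' γ)⁻¹ * mk' (sJ fr.std) * mk' γ ∈ G0 → Nat.card (nFour xx yy ⊓ G0 : Subgroup PP) = 24) := by
  obtain ⟨hx2, hy2, hcomm, hx1, hy1, hne⟩ := fr.basic
  obtain ⟨a1, a2, a3⟩ := sJ_conj fr.std
  obtain ⟨c1, c2, c3⟩ := sC_conj fr.std
  set N : Subgroup PP := nFour xx yy ⊓ G0 with hN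
  set s := (mk' γ)⁻¹ * mk' (sJ fr.std) * mk' γ with hs
  set w := (mk' γ)⁻¹ * (mk' (sC fr.std) * mk' (sJ fr.std)) * mk' γ with hw
  obtain ⟨s1, s2, s3⟩ := fr.pull (s := mk' (sJ fr.std)) (T1 := xx) (T2 := xx * yy) (T3 := yy)
    (by rw [fr.hx, a1]) (by rw [fr.conj_mul, a2]) (by rw [fr.hy, a3])
  have hcs : ∀ {u v : PP}, mk' (sJ fr.std) * u * (mk' (sJ fr.std))⁻¹ = v →
      mk' (sC fr.std) * mk' (sJ fr.std) * u * (mk' (sC fr.std) * mk' (sJ fr.std))⁻¹ =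
        mk' (sC fr.std) * v * (mk' (sC fr.std))⁻¹ := fun {u v} e => by rw [← e]; group
  obtain ⟨w1, w2, w3⟩ := fr.pull (s := mk' (sC fr.std) * mk' (sJ fr.std)) (T1 := yy) (T2 := xx * yy) (T3 := xx)
    (by rw [hcs a1, c1, fr.hy]) (by rw [hcs a2, c3, fr.conj_mul]) (by rw [hcs a3, c2, fr.hx])
  rw [← hs] at s1 s2 s3
  rw [← hw] at w1 w2 w3
  have mem : ∀ g : PP, g * xx * g⁻¹ ∈ ({xx, yy, xx * yy} : Set PP) →
      g * yy * g⁻¹ ∈ ({xx, yy, xx * yy} : Set PP) →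
      g * (xx * yy) * g⁻¹ ∈ ({xx, yy, xx * yy} : Set PP) → g ∈ nFour xx yy := fun g e1 e2 e3 =>
    mem_nFour_of_maps (by rintro z (rfl | rfl | rfl) <;> assumption)
  have hxy1 : xx * yy ≠ 1 := fun e => hne (by
    rw [← inv_eq_of_mul_eq_one_right hy2]; exact eq_inv_of_mul_eq_one_left e)
  have fix : ∀ g : PP, g * xx * g⁻¹ = xx → g * yy * g⁻¹ = yy → g ∈ nFour xx yy := fun g e1 e2 =>
    mem g (by rw [e1]; exact Or.inl rfl) (by rw [e2]; exact Or.inr (Or.inl rfl))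
      (by rw [show g * (xx * yy) * g⁻¹ = g * xx * g⁻¹ * (g * yy * g⁻¹) by group, e1, e2]; exact Or.inr (Or.inr rfl))
  have hxx : xx * xx * xx⁻¹ = xx := by group
  have hxy : xx * yy * xx⁻¹ = yy := by rw [hcomm]; group
  have hyx : yy * xx * yy⁻¹ = xx := by rw [← hcomm]; group
  have hyy : yy * yy * yy⁻¹ = yy := by group
  have hxN : xx ∈ N := ⟨fix _ hxx hxy, hG hxL⟩
  have hyN : yy ∈ N := ⟨fix _ hyx hyy, hG hyL⟩
  have hwN : w ∈ N := by
    refine ⟨mem _ (by rw [w1]; exact Or.inr (Or.inl rfl)) (by rw [w2]; exact Or.inr (Or.inr rfl))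
      (by rw [w3]; exact Or.inl rfl), hG ?_⟩
    have e : w = (mk' γ)⁻¹ * (mk' (sC fr.std * sJ fr.std)) * ((mk' γ)⁻¹)⁻¹ := by
      rw [hw, map_mul, inv_inv]
    rw [e, mem_L_iff_conj, mk_mem_L, Units.val_mul, Matrix.det_mul]
    refine ⟨2, ?_⟩
    simp [sC, sJ, cM, aM, Matrix.det_fin_two, Matrix.one_fin_two]
    linear_combination (-2 : F) * fr.std.sum
  set ρ := rhoFour G0 xx yy with hρ
  let X : {z : PP // z ∈ ({xx, yy, xx * yy} : Set PP)} := ⟨xx, Or.inl rfl⟩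
  let Y : {z : PP // z ∈ ({xx, yy, xx * yy} : Set PP)} := ⟨yy, Or.inr (Or.inl rfl)⟩
  let Z : {z : PP // z ∈ ({xx, yy, xx * yy} : Set PP)} := ⟨xx * yy, Or.inr (Or.inr rfl)⟩
  have hXY : X ≠ Y := fun e => hne (congrArg Subtype.val e)
  have hall : ∀ {p q : Equiv.Perm {z : PP // z ∈ ({xx, yy, xx * yy} : Set PP)}},
      p X = q X → p Y = q Y → p Z = q Z → p = q := fun {p q} h1 h2 h3 => Equiv.ext fun z => by
    rcases z with ⟨z, rfl | rfl | rfl⟩ <;> assumption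
  have h3 : 3 ∣ Nat.card ρ.range := by
    have e1 : ρ ⟨w, hwN⟩ X = Y := Subtype.ext w1
    have e2 : ρ ⟨w, hwN⟩ Y = Z := Subtype.ext w2
    have e3 : ρ ⟨w, hwN⟩ Z = X := Subtype.ext w3
    have ho : orderOf (ρ ⟨w, hwN⟩) = 3 := by
      haveI : Fact (Nat.Prime 3) := ⟨Nat.prime_three⟩
      refine orderOf_eq_prime ?_ fun e => hXY ?_
      · refine hall ?_ ?_ ?_ <;> simp [pow_succ, Equiv.Perm.mul_apply, e1, e2, e3]
      · rw [e, Equiv.Perm.one_apply] at e1; exact e1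
    rw [← ho]
    exact Subgroup.orderOf_dvd_natCard _ ⟨_, rfl⟩
  have h4 : 4 ≤ Nat.card ρ.ker := by
    have hker : ∀ g : N, (g : PP) * xx * (g : PP)⁻¹ = xx → (g : PP) * yy * (g : PP)⁻¹ = yy → g ∈ ρ.ker := by
      intro g e1 e2
      refine hall (Subtype.ext e1) (Subtype.ext e2) (Subtype.ext ?_)
      show (g : PP) * (xx * yy) * (g : PP)⁻¹ = xx * yy
      rw [show (g : PP) * (xx * yy) * (g : PP)⁻¹ = (g : PP) * xx * (g : PP)⁻¹ * ((g : PP) * yy * (g : PP)⁻¹)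
        by group, e1, e2]
    let k : Fin 4 → ρ.ker := ![1, ⟨⟨xx, hxN⟩, hker _ hxx hxy⟩, ⟨⟨yy, hyN⟩, hker _ hyx hyy⟩,
      ⟨⟨xx, hxN⟩, hker _ hxx hxy⟩ * ⟨⟨yy, hyN⟩, hker _ hyx hyy⟩]
    have hk : Function.Injective k := by
      intro i j e
      have e' : (((k i : ρ.ker) : N) : PP) = (((k j : ρ.ker) : N) : PP) := by rw [e]
      fin_cases i <;> fin_cases j <;>
        simp [k, hx1, hy1, hne, hxy1, hx1.symm, hy1.symm, hne.symm, hxy1.symm] at e' ⊢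
    simpa using Nat.card_le_card_of_injective k hk
  have hmul : Nat.card ρ.ker * Nat.card ρ.range = Nat.card N := by
    rw [← ρ.ker.card_mul_index, Subgroup.index_ker]
  refine ⟨?_, fun hsG => le_antisymm ((Subgroup.card_le_of_le inf_le_left).trans fr.natCard_le) ?_⟩
  · rw [← hmul]
    exact le_trans (le_of_eq rfl) (Nat.mul_le_mul h4 (Nat.le_of_dvd Nat.card_pos h3))
  · have hsN : s ∈ N := ⟨mem _ (by rw [s1]; exact Or.inl rfl) (by rw [s2]; exact Or.inr (Or.inr rfl))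
      (by rw [s3]; exact Or.inr (Or.inl rfl)), hsG⟩
    have e1 : ρ ⟨s, hsN⟩ X = X := Subtype.ext s1
    have e2 : ρ ⟨s, hsN⟩ Y = Z := Subtype.ext s2
    have e3 : ρ ⟨s, hsN⟩ Z = Y := Subtype.ext s3
    have h2 : 2 ∣ Nat.card ρ.range := by
      have ho : orderOf (ρ ⟨s, hsN⟩) = 2 := by
        refine orderOf_eq_prime ?_ fun e => hx1 ?_
        · refine hall ?_ ?_ ?_ <;> simp [pow_succ, Equiv.Perm.mul_apply, e1, e2, e3]
        · rw [e, Equiv.Perm.one_apply] at e2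
          exact (mul_eq_right.1 (congrArg Subtype.val e2).symm)
      exact (dvd_of_eq ho.symm).trans (Subgroup.orderOf_dvd_natCard _ ⟨_, rfl⟩)
    have h6 : 2 * 3 ∣ Nat.card ρ.range := Nat.Coprime.mul_dvd_of_dvd_of_dvd (by norm_num) h2 h3
    rw [← hmul]
    exact le_trans (le_of_eq rfl) (Nat.mul_le_mul h4 (Nat.le_of_dvd Nat.card_pos h6))

theorem Frame.natCard_top (hxL : xx ∈ L F) (hyL : yy ∈ L F) : Nat.card (nFour xx yy) = 24 := by
  have h := (fr.twelve_dvd hxL hyL (le_top : L F ≤ ⊤)).2 (Subgroup.mem_top _)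
  rwa [inf_top_eq] at h

/-- `N ⊓ L` has order `24` exactly when `2` is a square -/
theorem Frame.card_inf_L (hxL : xx ∈ L F) (hyL : yy ∈ L F) :
    (IsSquare (2 : F) → Nat.card (nFour xx yy ⊓ L F : Subgroup PP) = 24) ∧
    (¬ IsSquare (2 : F) → Nat.card (nFour xx yy ⊓ L F : Subgroup PP) = 12) := by
  have e : (mk' γ)⁻¹ * mk' (sJ fr.std) * mk' γ ∈ L F ↔ IsSquare (2 : F) := by
    have := mem_L_iff_conj (γ := (mk' γ)⁻¹) (x := mk' (sJ fr.std))
    rw [inv_inv] at this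
    rw [this, mk_mem_L]
    simp [sJ, cM, Matrix.det_fin_two, Matrix.one_fin_two, one_add_one_eq_two]
  obtain ⟨h12, h24⟩ := fr.twelve_dvd hxL hyL (le_refl (L F))
  refine ⟨fun h => h24 (e.2 h), fun h => ?_⟩
  have hle : (nFour xx yy ⊓ L F : Subgroup PP) ≤ nFour xx yy := inf_le_left
  have hd := Subgroup.card_dvd_of_le hle
  rw [fr.natCard_top hxL hyL] at hd
  have hne : Nat.card (nFour xx yy ⊓ L F : Subgroup PP) ≠ 24 := fun h' => h (e.1 (by
    obtain ⟨a1, a2, a3⟩ := sJ_conj fr.std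
    obtain ⟨s1, s2, s3⟩ := fr.pull (s := mk' (sJ fr.std)) (T1 := xx) (T2 := xx * yy) (T3 := yy)
      (by rw [fr.hx, a1]) (by rw [fr.conj_mul, a2]) (by rw [fr.hy, a3])
    have hsN : (mk' γ)⁻¹ * mk' (sJ fr.std) * mk' γ ∈ nFour xx yy := mem_nFour_of_maps (by
      rintro z (rfl | rfl | rfl)
      · rw [s1]; exact Or.inl rfl
      · rw [s2]; exact Or.inr (Or.inr rfl)
      · rw [s3]; exact Or.inr (Or.inl rfl))
    have heq := Subgroup.eq_of_le_of_card_ge hle (by rw [fr.natCard_top hxL hyL, h'])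
    rw [← heq] at hsN
    exact hsN.2))
  have hle24 : Nat.card (nFour xx yy ⊓ L F : Subgroup PP) ≤ 24 := Nat.le_of_dvd (by norm_num) hd
  obtain ⟨t, ht⟩ := hd
  rcases t with _ | _ | _ | t
  · omega
  · omega
  · omega
  · nlinarith [h12]

end frame

end Cfsg.Agent.Forms.DicksonPGL
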