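import Mathlib
import Cfsg.Agent.Lib.Forms.DicksonPGL.Basic

/-!
# Dickson's list with characteristic data
-/

set_option autoImplicit false
set_option linter.unusedSectionVars false

namespace Cfsg.Agent.Forms.DicksonPGL

open MulAction
open scoped MatrixGroups

variable {F : Type*} [Field F] [Fintype F]

local notation "PP" => Matrix.ProjGenLinGroup (Fin 2) F
local notation "PG" => Matrix.ProjectiveSpecialLinearGroup (Fin 2) F

/-- three involutions of a characteristic Klein group -/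
def CharFour {T : Type*} [Group T] (x y : T) : Prop :=
  orderOf x = 2 ∧ orderOf y = 2 ∧ x ≠ y ∧ Commute x y ∧
    ∀ φ : T ≃* T, φ x ∈ ({x, y, x * y} : Set T) ∧ φ y ∈ ({x, y, x * y} : Set T)

theorem charFour_of {T : Type*} [Group T] (P : T → Prop) (hP : ∀ (φ : T ≃* T) (z : T), P z → P (φ z))
    (x y : T) (hxy : orderOf x = 2 ∧ orderOf y = 2 ∧ x ≠ y ∧ Commute x y)
    (hz : ∀ z, P z ↔ z = x ∨ z = y ∨ z = x * y) : CharFour x y :=
  ⟨hxy.1, hxy.2.1, hxy.2.2.1, hxy.2.2.2, fun φ => ⟨(hz _).1 (hP φ x ((hz x).2 (Or.inl rfl))),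
    (hz _).1 (hP φ y ((hz y).2 (Or.inr (Or.inl rfl))))⟩⟩

theorem CharFour.transport {T U : Type*} [Group T] [Group U] {x y : T} (h : CharFour x y) (e : U ≃* T) :
    CharFour (e.symm x) (e.symm y) := by
  obtain ⟨hx, hy, hne, hc, hφ⟩ := h
  refine ⟨by rw [MulEquiv.orderOf_eq, hx], by rw [MulEquiv.orderOf_eq, hy],
    fun h => hne (e.symm.injective h), hc.map e.symm.toMonoidHom, fun φ => ?_⟩
  obtain ⟨h1, h2⟩ := hφ ((e.symm.trans φ).trans e)
  have key : ∀ z, e (φ (e.symm z)) ∈ ({x, y, x * y} : Set T) →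
      φ (e.symm z) ∈ ({e.symm x, e.symm y, e.symm x * e.symm y} : Set U) := by
    rintro z (hz | hz | hz) <;> have hz' := congrArg e.symm hz <;> rw [MulEquiv.symm_apply_apply] at hz'
    · exact Or.inl hz'
    · exact Or.inr (Or.inl hz')
    · exact Or.inr (Or.inr (hz'.trans (map_mul _ _ _)))
  exact ⟨key x h1, key y h2⟩

set_option synthInstance.maxSize 4000 in
set_option synthInstance.maxHeartbeats 100000 in
theorem alt4_four : ∃ x y : alternatingGroup (Fin 4), x * x = 1 ∧ y * y = 1 ∧ x ≠ 1 ∧ y ≠ 1 ∧ x ≠ y ∧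
    x * y = y * x ∧ ∀ z, (z ≠ 1 ∧ z * z = 1) ↔ z = x ∨ z = y ∨ z = x * y := by decide +kernel

set_option synthInstance.maxSize 4000 in
set_option synthInstance.maxHeartbeats 100000 in
theorem sym4_four : ∃ x y : Equiv.Perm (Fin 4), x * x = 1 ∧ y * y = 1 ∧ x ≠ 1 ∧ y ≠ 1 ∧ x ≠ y ∧
    x * y = y * x ∧ ∀ z, (z ≠ 1 ∧ z * z = 1 ∧ ∃ w, w * w = z) ↔ z = x ∨ z = y ∨ z = x * y := by
  decide +kernel

set_option synthInstance.maxSize 4000 in
set_option synthInstance.maxHeartbeats 100000 in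
theorem dih2_four : ∃ x y : DihedralGroup 2, x * x = 1 ∧ y * y = 1 ∧ x ≠ 1 ∧ y ≠ 1 ∧ x ≠ y ∧
    x * y = y * x ∧ ∀ z, (z ≠ 1 ∧ z * z = 1) ↔ z = x ∨ z = y ∨ z = x * y := by decide

open scoped _root_.Classical

theorem orderOf_two {T : Type*} [Group T] {x : T} (h : x * x = 1) (h1 : x ≠ 1) : orderOf x = 2 :=
  orderOf_eq_prime (hp := ⟨Nat.prime_two⟩) (by rw [pow_two, h]) h1

theorem exists_charFour {T : Type*} [Group T] (h : Nonempty (T ≃* DihedralGroup 2) ∨
    Nonempty (T ≃* alternatingGroup (Fin 4)) ∨ Nonempty (T ≃* Equiv.Perm (Fin 4))) :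
    ∃ x y : T, CharFour x y := by
  rcases h with ⟨⟨e⟩⟩ | ⟨⟨e⟩⟩ | ⟨⟨e⟩⟩
  · obtain ⟨x, y, hx, hy, hx1, hy1, hne, hc, hz⟩ := dih2_four
    exact ⟨_, _, (charFour_of (fun z => z ≠ 1 ∧ z * z = 1) (fun φ z hz => ⟨fun e => hz.1 (φ.injective
      (e.trans φ.map_one.symm)), by rw [← map_mul, hz.2, map_one]⟩) x y
      ⟨orderOf_two hx hx1, orderOf_two hy hy1, hne, hc⟩ hz).transport e⟩
  · obtain ⟨x, y, hx, hy, hx1, hy1, hne, hc, hz⟩ := alt4_four
    exact ⟨_, _, (charFour_of (fun z => z ≠ 1 ∧ z * z = 1) (fun φ z hz => ⟨fun e => hz.1 (φ.injective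
      (e.trans φ.map_one.symm)), by rw [← map_mul, hz.2, map_one]⟩) x y
      ⟨orderOf_two hx hx1, orderOf_two hy hy1, hne, hc⟩ hz).transport e⟩
  · obtain ⟨x, y, hx, hy, hx1, hy1, hne, hc, hz⟩ := sym4_four
    exact ⟨_, _, (charFour_of (fun z => z ≠ 1 ∧ z * z = 1 ∧ ∃ w, w * w = z) (fun φ z hz => ⟨fun e => hz.1
      (φ.injective (e.trans φ.map_one.symm)), by rw [← map_mul, hz.2.1, map_one],
      hz.2.2.elim fun w hw => ⟨φ w, by rw [← map_mul, hw]⟩⟩) x y
      ⟨orderOf_two hx hx1, orderOf_two hy hy1, hne, hc⟩ hz).transport e⟩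

variable (p : ℕ) [hp : Fact p.Prime] [CharP F p]

/-- Dickson's list, sorted by a characteristic subgroup -/
theorem shapes (H : Subgroup (Matrix.ProjectiveSpecialLinearGroup (Fin 2) F)) (hH : H ≠ ⊥) :
    (∃ g : H, g ≠ 1 ∧ orderOf g ≠ p ∧ ∀ φ : H ≃* H, φ g ∈ Subgroup.zpowers g) ∨
    (∃ u : H, orderOf u = p ∧ ∃ w : OnePoint F, ∀ h ∈ H, h • DicksonField.emb F w = DicksonField.emb F w) ∨
    (p ≠ 2 ∧ (∃ x y : H, CharFour x y) ∧ (Nonempty (H ≃* DihedralGroup 2) ∨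
      Nonempty (H ≃* alternatingGroup (Fin 4)) ∨ Nonempty (H ≃* Equiv.Perm (Fin 4)))) ∨
    (p ≠ 2 ∧ p ≠ 5 ∧ Nonempty (H ≃* alternatingGroup (Fin 5))) ∨
    (∃ x, DicksonModular.Transitive' ((DicksonAction.twoPt (F := F) p).subgroup H) x) := by
  have hTH := (DicksonAction.twoPt (F := F) p).subgroup H
  have inv : ∀ {T : Type} [Group T] (e : H ≃* T) (t : T) (n : ℕ), orderOf t = n →
      ∃ g : H, orderOf g = n := fun e t n h => ⟨e.symm t, by rw [MulEquiv.orderOf_eq, h]⟩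
  have hdih : ∀ c : H, orderOf c ≠ p → c ≠ 1 → Nonempty (H ≃* DihedralGroup (orderOf c)) →
      (∃ g : H, g ≠ 1 ∧ orderOf g ≠ p ∧ ∀ φ : H ≃* H, φ g ∈ Subgroup.zpowers g) ∨
        (orderOf c = 2 ∧ Nonempty (H ≃* DihedralGroup 2)) := by
    rintro c hcp hc1 ⟨e⟩
    rcases eq_or_ne (orderOf c) 2 with h2 | h2
    · rw [h2] at e
      exact Or.inr ⟨h2, ⟨e⟩⟩
    · left
      have hn2 : 2 < orderOf c := by
        have := orderOf_pos c
        have h1 : orderOf c ≠ 1 := fun e1 => hc1 (orderOf_eq_one_iff.1 e1)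
        omega
      set g := e.symm (DihedralGroup.r 1) with hg
      have hog : orderOf g = orderOf c := by rw [hg, MulEquiv.orderOf_eq, DihedralGroup.orderOf_r_one]
      refine ⟨g, fun e1 => hc1 (orderOf_eq_one_iff.1 (by rw [← hog, e1, orderOf_one])), hog ▸ hcp,
        fun φ => ?_⟩
      have ho : orderOf (e (φ g)) = orderOf c := by rw [MulEquiv.orderOf_eq, MulEquiv.orderOf_eq, hog]
      cases hi : e (φ g) with
      | sr i => rw [hi, DihedralGroup.orderOf_sr] at ho; omega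
      | r i =>
        haveI : NeZero (orderOf c) := ⟨by omega⟩
        refine ⟨(i.val : ℤ), e.injective ?_⟩
        show e (g ^ (i.val : ℤ)) = _
        rw [hi, map_zpow, hg, MulEquiv.apply_symm_apply, zpow_natCast, DihedralGroup.r_one_pow,
          ZMod.natCast_zmod_val]
  by_cases hN : ∀ g : H, orderOf g ≠ p
  · have hp2 : ∀ g : H, orderOf g = 2 → p ≠ 2 := fun g hg e => hN g (hg.trans e.symm)
    rcases DicksonCount.classify_coprime hTH hN with h | ⟨c, hc1, h⟩ | ⟨⟨e⟩⟩ | ⟨⟨e⟩⟩ | ⟨⟨e⟩⟩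
    · obtain ⟨c, hc⟩ := IsCyclic.exists_generator (α := H)
      refine Or.inl ⟨c, fun e => hH ((Subgroup.eq_bot_iff_forall _).2 fun z hz => ?_), hN c,
        fun φ => hc _⟩
      have := hc ⟨z, hz⟩
      rw [e, Subgroup.zpowers_one_eq_bot, Subgroup.mem_bot] at this
      exact congrArg Subtype.val this
    · rcases hdih c (hN c) hc1 h with h' | ⟨h2, h'⟩
      · exact Or.inl h'
      · exact Or.inr (Or.inr (Or.inl ⟨hp2 c h2, exists_charFour (Or.inl h'), Or.inl h'⟩))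
    · obtain ⟨x, y, hxy⟩ := exists_charFour (Or.inr (Or.inl ⟨e⟩))
      exact Or.inr (Or.inr (Or.inl ⟨hp2 x hxy.1, ⟨x, y, hxy⟩, Or.inr (Or.inl ⟨e⟩)⟩))
    · obtain ⟨x, y, hxy⟩ := exists_charFour (Or.inr (Or.inr ⟨e⟩))
      exact Or.inr (Or.inr (Or.inl ⟨hp2 x hxy.1, ⟨x, y, hxy⟩, Or.inr (Or.inr ⟨e⟩)⟩))
    · have h60 : ∀ r : ℕ, r.Prime → r ∣ 60 → p ≠ r := by
        intro r hr hd e'
        haveI : Fact r.Prime := ⟨hr⟩
        obtain ⟨g, hg⟩ := exists_prime_orderOf_dvd_card' (G := alternatingGroup (Fin 5)) r (by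
          rw [nat_card_alternatingGroup, Nat.card_fin]; exact hd.trans (by decide))
        obtain ⟨g', hg'⟩ := inv e g r hg
        exact hN g' (hg'.trans e'.symm)
      exact Or.inr (Or.inr (Or.inr (Or.inl
        ⟨h60 2 Nat.prime_two (by norm_num), h60 5 (by norm_num) (by norm_num), ⟨e⟩⟩)))
  · push Not at hN
    obtain ⟨u, hu⟩ := hN
    rcases DicksonModular.classify_modular hTH hu with ⟨x, -, hfix⟩ | ⟨c, hc1, hc, h⟩ | ⟨h3, h⟩ | h
    · have hu' : orderOf (u : PG) = p := by rw [Subgroup.orderOf_coe, hu]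
      obtain ⟨w, hw⟩ := DicksonField.rational_of_fix (z := x) p hu' (hfix u)
      exact Or.inr (Or.inl ⟨u, hu, w, fun h hh => hw ▸ hfix ⟨h, hh⟩⟩)
    · rcases hdih c hc hc1 h with h' | ⟨h2, ⟨e⟩⟩
      · exact Or.inl h'
      · exfalso
        have h4 : ∀ z : DihedralGroup 2, z * z = 1 := by decide
        have hd : orderOf (e u) ∣ 2 := orderOf_dvd_of_pow_eq_one (by rw [pow_two, h4])
        rw [MulEquiv.orderOf_eq, hu, Nat.prime_dvd_prime_iff_eq hp.out Nat.prime_two] at hd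
        exact hc (h2.trans hd.symm)
    · exact Or.inr (Or.inr (Or.inr (Or.inl ⟨by omega, by omega, h⟩)))
    · exact Or.inr (Or.inr (Or.inr (Or.inr h)))

/-- an element normalising `H` induces an automorphism -/
theorem exists_aut {G0 : Type*} [Group G0] [Finite G0] {A : Type*} [Group A] (f : A →* G0)
    (hf : Function.Injective f) (H : Subgroup A) {m : G0}
    (hm : ∀ z ∈ H.map f, m * z * m⁻¹ ∈ H.map f) :
    ∃ φ : H ≃* H, ∀ h : H, f (φ h : A) = m * f h * m⁻¹ := by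
  haveI : Finite A := Finite.of_injective f hf
  choose ψ hψ hψ' using fun h : H => hm _ ⟨h, h.2, rfl⟩
  let j : H →* H := MonoidHom.mk' (fun h => ⟨ψ h, hψ h⟩) fun a b => Subtype.ext (hf (by
    show f (ψ (a * b)) = f (ψ a * ψ b)
    rw [map_mul, hψ', hψ', hψ', Subgroup.coe_mul, map_mul]; group))
  have hj : Function.Injective j := fun a b e => Subtype.ext (hf (by
    have := congrArg (fun z : H => f (z : A)) e
    simpa [j, hψ'] using this))
  exact ⟨MulEquiv.ofBijective j (Finite.injective_iff_bijective.1 hj), fun h => hψ' h⟩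

end Cfsg.Agent.Forms.DicksonPGL
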