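import Mathlib
import Cfsg.Agent.Lib.Forms.DicksonPGL.Basic

/-!
# Maximal subgroups inside subfield subgroups
-/

set_option autoImplicit false
set_option linter.unusedSectionVars false

open scoped Classical

namespace Cfsg.Agent.Forms.DicksonPGL

open Matrix MulAction Polynomial
open scoped MatrixGroups

variable {F : Type*} [Field F] [Fintype F]

local notation "PP" => Matrix.ProjGenLinGroup (Fin 2) F
local notation "mk'" => Matrix.ProjGenLinGroup.mk (n := Fin 2) (R := F)

theorem exists_intermediate {K : Type*} [Field K] [Fintype K] (f : K →+* F) {a b : ℕ}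
    (hm : Fintype.card K ^ (a * b) = Fintype.card F) (ha : a ≠ 0) (hb : b ≠ 0) :
    ∃ (K' : Type) (_ : Field K') (_ : Fintype K') (f' : K' →+* F),
      Fintype.card K' = Fintype.card K ^ a ∧ Set.range f ⊆ Set.range f' := by
  obtain ⟨p, hp⟩ := CharP.exists K
  haveI := hp
  haveI : Fact p.Prime := ⟨CharP.char_is_prime K p⟩
  obtain ⟨e, -, he⟩ := FiniteField.card K p
  have hea : (e : ℕ) * a ≠ 0 := mul_ne_zero e.ne_zero ha
  let K' := GaloisField p ((e : ℕ) * a)
  haveI : Fintype K' := Fintype.ofFinite K'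
  have hK' : Fintype.card K' = Fintype.card K ^ a := by
    rw [← Nat.card_eq_fintype_card, GaloisField.card p _ hea, he, ← pow_mul]
  obtain ⟨f'⟩ := PslMap.nonempty_ringHom (K := K') (F := F) b (by rw [hK', ← pow_mul, hm])
  refine ⟨K', inferInstance, inferInstance, f', hK', ?_⟩
  set N := Fintype.card K ^ a with hN
  have hN1 : 1 < N := Nat.one_lt_pow ha Fintype.one_lt_card
  have hpol : (X ^ N - X : F[X]) ≠ 0 := FiniteField.X_pow_card_sub_X_ne_zero F hN1
  let R : Finset F := (X ^ N - X : F[X]).roots.toFinset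
  have hR : R.card ≤ N := by
    refine (Multiset.toFinset_card_le _).trans ((card_roots' _).trans ?_)
    rw [FiniteField.X_pow_card_sub_X_natDegree_eq F hN1]
  have hmem : ∀ x : F, x ^ N = x → x ∈ R := fun x hx => by
    simp only [R, Multiset.mem_toFinset, mem_roots hpol, IsRoot.def, eval_sub, eval_pow, eval_X, hx, sub_self]
  have himg : (Finset.univ.image f') = R := by
    refine Finset.eq_of_subset_of_card_le ?_ ?_
    · intro x hx
      obtain ⟨y, -, rfl⟩ := Finset.mem_image.1 hx
      refine hmem _ ?_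
      rw [← map_pow, ← hK', FiniteField.pow_card]
    · rw [Finset.card_image_of_injective _ f'.injective, Finset.card_univ, hK']
      exact hR
  rintro _ ⟨x, rfl⟩
  have : f x ∈ R := hmem _ (by rw [← map_pow, hN, FiniteField.pow_card_pow])
  rw [← himg] at this
  obtain ⟨y, -, hy⟩ := Finset.mem_image.1 this
  exact ⟨y, hy⟩

/-- `2|PGL₂(k)| < |PGL₂(k')|` for a larger field -/
theorem card_lt_of_le {k k' : ℕ} (hk : 2 ≤ k) (h : k * k ≤ k') :
    2 * (k * ((k - 1) * (k + 1))) < k' * ((k' - 1) * (k' + 1)) :=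
  lt_of_lt_of_le (two_mul_card_lt hk (pow_two k) le_rfl)
    (Nat.mul_le_mul h (Nat.mul_le_mul (by omega) (by omega)))

/-- a maximal subgroup in a subfield subgroup is that subgroup, and the degree is a prime -/
theorem MaxIn.of_sub {G0 M : Subgroup PP} (h : MaxIn G0 M) {K : Type*} [Field K] [Fintype K]
    (f : K →+* F) (γ : GL (Fin 2) F) {m : ℕ} (hm : Fintype.card K ^ m = Fintype.card F) (hm2 : 2 ≤ m)
    (hle : M ≤ sub f γ) : M = sub f γ ⊓ G0 ∧ m.Prime := by
  refine ⟨h.eq_inf hle (not_L_le_sub f γ hm hm2), ?_⟩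
  by_contra hnp
  obtain ⟨a, b, ha, hb, rfl⟩ := (Nat.not_prime_iff_exists_mul_eq hm2).1 hnp |>.elim
    fun a h => h.elim fun b h => (⟨a, b, h.1, h.2.1, h.2.2.symm⟩ : ∃ a b, a < m ∧ b < m ∧ m = a * b)
  have hb2 : 2 ≤ b := by
    by_contra hlt
    interval_cases b <;> omega
  have ha2 : 2 ≤ a := by
    by_contra hlt
    interval_cases a <;> omega
  obtain ⟨K', iK, fK, f', hK', hsub⟩ := exists_intermediate f hm (by omega) (by omega)
  have hmb : Fintype.card K' ^ b = Fintype.card F := by rw [hK', ← pow_mul, hm]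
  have hle' : M ≤ sub f' γ := hle.trans (sub_mono f f' hsub γ)
  have hM := h.hmax _ hle' (not_L_le_sub f' γ hmb hb2)
  have hcard : Nat.card (sub f' γ ⊓ L F : Subgroup PP) ≤ Nat.card (sub f γ) :=
    Subgroup.card_le_of_le ((inf_le_inf_left _ h.amb).trans (hM.trans hle))
  have h1 := (card_psl_le_sub_inf f' γ).trans hcard
  have h2 := Classical.SmallIso.natCard_pslTwo K'
  rw [Classical.GL2.natCard_SL_two] at h2
  have hg : Nat.gcd 2 (Fintype.card K' - 1) ≤ 2 := Nat.gcd_le_left _ (by norm_num)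
  have h3 := Nat.mul_le_mul hg h1
  rw [h2, natCard_sub] at h3
  have hk2 : Fintype.card K * Fintype.card K ≤ Fintype.card K' := by
    rw [hK', ← pow_two]; exact Nat.pow_le_pow_right Fintype.card_pos ha2
  exact absurd (card_lt_of_le Fintype.one_lt_card hk2) (Nat.not_lt.2 h3)

/-- the normaliser of `PSL₂(K)` is inside `PGL₂(K)` -/
theorem mk_mem_range_of_conj {K : Type*} [Field K] [Fintype K] (f : K →+* F) (g : GL (Fin 2) F)
    (h : ∀ Y : SL(2, K), mk' g * DicksonField.pglMap f
        (Matrix.ProjGenLinGroup.mk (Matrix.SpecialLinearGroup.toGL Y)) * (mk' g)⁻¹ ∈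
      (DicksonField.pglMap f).range) :
    mk' g ∈ (DicksonField.pglMap f).range := by
  set G := (g : Matrix (Fin 2) (Fin 2) F) with hG
  set G' := ((g⁻¹ : GL (Fin 2) F) : Matrix (Fin 2) (Fin 2) F) with hG'
  have hGG : G * G' = 1 := by rw [hG, hG', ← Units.val_mul, mul_inv_cancel, Units.val_one]
  -- conjugation keeps the unipotents rational over the subfield
  have key : ∀ (Y : SL(2, K)), (Y : Matrix (Fin 2) (Fin 2) K).trace = 2 →
      ∀ i j, ∃ a, f a = (G * ((Y : Matrix (Fin 2) (Fin 2) K).map f - 1) * G') i j := by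
    intro Y hY
    obtain ⟨z, hz⟩ := h Y
    obtain ⟨N, rfl⟩ := Matrix.ProjGenLinGroup.mk_surjective z
    rw [DicksonField.pglMap_mk, DicksonField.pglMap_mk, ← map_inv, ← map_mul, ← map_mul,
      Matrix.ProjGenLinGroup.mk_eq_mk_iff] at hz
    obtain ⟨u, hu⟩ := hz
    have e : (N : Matrix (Fin 2) (Fin 2) K).map f * Matrix.scalar (Fin 2) (u : F) =
        G * (Y : Matrix (Fin 2) (Fin 2) K).map f * G' := congrArg Units.val hu
    have e' : (u : F) • (N : Matrix (Fin 2) (Fin 2) K).map f =
        G * (Y : Matrix (Fin 2) (Fin 2) K).map f * G' := by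
      rw [← e, Matrix.scalar_apply, ← Matrix.smul_one_eq_diagonal, Matrix.mul_smul, mul_one]
    have ht : (u : F) * f (N : Matrix (Fin 2) (Fin 2) K).trace = 2 := by
      have := congrArg Matrix.trace e'
      rw [Matrix.trace_mul_cycle, mul_eq_one_comm.1 hGG, one_mul, Matrix.trace_smul, smul_eq_mul] at this
      rw [Matrix.trace_fin_two, Matrix.trace_fin_two, Matrix.map_apply, Matrix.map_apply,
        Matrix.map_apply, Matrix.map_apply, ← map_add, ← map_add] at this
      rw [Matrix.trace_fin_two] at hY ⊢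
      rw [this, hY, map_ofNat]
    have hd : (u : F) * u * f (N : Matrix (Fin 2) (Fin 2) K).det = 1 := by
      have := congrArg Matrix.det e'
      rw [Matrix.det_smul, Fintype.card_fin, Matrix.det_mul, Matrix.det_mul, mul_right_comm,
        ← Matrix.det_mul, hGG, Matrix.det_one, one_mul, ← RingHom.mapMatrix_apply, ← RingHom.map_det,
        ← RingHom.mapMatrix_apply, ← RingHom.map_det, Matrix.SpecialLinearGroup.det_coe, map_one,
        pow_two] at this
      exact this
    obtain ⟨r, hr⟩ : ∃ r : K, f r = (u : F) := by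
      by_cases h2 : (2 : K) = 0
      · haveI : CharP K 2 := CharTwo.of_one_ne_zero_of_two_eq_zero one_ne_zero h2
        have hdet : (N : Matrix (Fin 2) (Fin 2) K).det ≠ 0 := N.det_ne_zero
        obtain ⟨s, hs⟩ := FiniteField.isSquare_of_char_two (ringChar.eq K 2)
          ((N : Matrix (Fin 2) (Fin 2) K).det)⁻¹
        refine ⟨s, ?_⟩
        have h2F : (2 : F) = 0 := by rw [← map_ofNat f 2, h2, map_zero]
        have hu2 : (u : F) * u = f s * f s := by
          rw [← map_mul, ← hs, map_inv₀]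
          exact eq_inv_of_mul_eq_one_left hd
        have : ((u : F) - f s) * ((u : F) - f s) = 0 := by
          linear_combination hu2 + (f s * f s - (u : F) * f s) * h2F
        exact (sub_eq_zero.1 (mul_self_eq_zero.1 this)).symm
      · have ht0 : (N : Matrix (Fin 2) (Fin 2) K).trace ≠ 0 := fun e0 => by
          rw [e0, map_zero, mul_zero] at ht
          exact h2 (f.injective (by rw [map_ofNat, map_zero, ← ht]))
        refine ⟨2 / (N : Matrix (Fin 2) (Fin 2) K).trace, ?_⟩
        rw [map_div₀, map_ofNat, div_eq_iff ((map_ne_zero f).2 ht0)]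
        exact ht.symm
    intro i j
    refine ⟨r * (N : Matrix (Fin 2) (Fin 2) K) i j - (1 : Matrix (Fin 2) (Fin 2) K) i j, ?_⟩
    rw [mul_sub, mul_one, sub_mul, hGG, Matrix.sub_apply, ← e', Matrix.smul_apply, Matrix.map_apply,
      map_sub, map_mul, hr, smul_eq_mul]
    congr 1
    simp [Matrix.one_apply, apply_ite f]
  let S : Subfield F := f.fieldRange
  set D := G.det with hD
  have hD0 : D ≠ 0 := g.det_ne_zero
  have hG'e : G' = D⁻¹ • !![G 1 1, -G 0 1; -G 1 0, G 0 0] := by
    rw [hG', Matrix.coe_units_inv, Matrix.inv_def, Ring.inverse_eq_inv', Matrix.adjugate_fin_two]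
  -- the three rank one conjugates
  have k1 := key (Classical.GL2.uniSL 1) (by simp [Classical.GL2.coe_uniSL, Matrix.trace_fin_two, one_add_one_eq_two])
  have k2 := key (Classical.GL2.lowSL 1) (by simp [Classical.GL2.coe_lowSL, Matrix.trace_fin_two, one_add_one_eq_two])
  set A := G * ((Classical.GL2.uniSL (1 : K) : Matrix (Fin 2) (Fin 2) K).map f - 1) * G' with hA
  set B := G * ((Classical.GL2.lowSL (1 : K) : Matrix (Fin 2) (Fin 2) K).map f - 1) * G' with hB
  have hAS : ∀ i j, A i j ∈ S := fun i j => let ⟨a, ha⟩ := k1 i j; ⟨a, ha⟩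
  have hBS : ∀ i j, B i j ∈ S := fun i j => let ⟨a, ha⟩ := k2 i j; ⟨a, ha⟩
  have hAe : A = D⁻¹ • !![-(G 0 0 * G 1 0), G 0 0 * G 0 0; -(G 1 0 * G 1 0), G 0 0 * G 1 0] := by
    rw [hA, hG'e]
    ext i j
    fin_cases i <;> fin_cases j <;>
      simp [Classical.GL2.coe_uniSL, Matrix.mul_apply, Fin.sum_univ_two] <;> ring
  have hBe : B = D⁻¹ • !![G 0 1 * G 1 1, -(G 0 1 * G 0 1); G 1 1 * G 1 1, -(G 0 1 * G 1 1)] := by
    rw [hB, hG'e]
    ext i j
    fin_cases i <;> fin_cases j <;>
      simp [Classical.GL2.coe_lowSL, Matrix.mul_apply, Fin.sum_univ_two] <;> ring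
  have hABe : A * B = D⁻¹ • !![G 0 0 * G 1 1, -(G 0 0 * G 0 1); G 1 0 * G 1 1, -(G 0 1 * G 1 0)] := by
    rw [hAe, hBe]
    have hd : D = G 0 0 * G 1 1 - G 0 1 * G 1 0 := Matrix.det_fin_two G
    ext i j
    fin_cases i <;> fin_cases j <;>
      simp [Matrix.mul_apply, Fin.sum_univ_two] <;> field_simp <;> rw [hd] <;> ring
  have hABS : ∀ i j, (A * B) i j ∈ S := fun i j => by
    rw [Matrix.mul_apply, Fin.sum_univ_two]
    exact S.add_mem (S.mul_mem (hAS _ _) (hBS _ _)) (S.mul_mem (hAS _ _) (hBS _ _))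
  have hpair : ∀ i j k l, G i j * G k l / D ∈ S := by
    have a00 : G 0 0 * G 0 0 / D ∈ S := by
      have := hAS 0 1; rw [hAe] at this; simpa [div_eq_inv_mul] using this
    have a10 : G 1 0 * G 1 0 / D ∈ S := by
      have := S.neg_mem (hAS 1 0); rw [hAe] at this; simpa [div_eq_inv_mul] using this
    have ac : G 0 0 * G 1 0 / D ∈ S := by
      have := hAS 1 1; rw [hAe] at this; simpa [div_eq_inv_mul] using this
    have b01 : G 0 1 * G 0 1 / D ∈ S := by
      have := S.neg_mem (hBS 0 1); rw [hBe] at this; simpa [div_eq_inv_mul] using this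
    have b11 : G 1 1 * G 1 1 / D ∈ S := by
      have := hBS 1 0; rw [hBe] at this; simpa [div_eq_inv_mul] using this
    have bd : G 0 1 * G 1 1 / D ∈ S := by
      have := hBS 0 0; rw [hBe] at this; simpa [div_eq_inv_mul] using this
    have ad : G 0 0 * G 1 1 / D ∈ S := by
      have := hABS 0 0; rw [hABe] at this; simpa [div_eq_inv_mul] using this
    have ab : G 0 0 * G 0 1 / D ∈ S := by
      have := S.neg_mem (hABS 0 1); rw [hABe] at this; simpa [div_eq_inv_mul] using this
    have cd : G 1 0 * G 1 1 / D ∈ S := by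
      have := hABS 1 0; rw [hABe] at this; simpa [div_eq_inv_mul] using this
    have bc : G 0 1 * G 1 0 / D ∈ S := by
      have := S.neg_mem (hABS 1 1); rw [hABe] at this; simpa [div_eq_inv_mul] using this
    intro i j k l
    fin_cases i <;> fin_cases j <;> fin_cases k <;> fin_cases l <;>
      first | assumption | (rw [mul_comm (G _ _)]; assumption)
  obtain ⟨i₀, j₀, h0⟩ : ∃ i j, G i j ≠ 0 := by
    by_contra hne
    push Not at hne
    exact hD0 (by simp [hD, Matrix.det_fin_two, hne])
  choose N hN using fun i j => (hpair i₀ j₀ i j : G i₀ j₀ * G i j / D ∈ f.fieldRange)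
  have hNd : (Matrix.of N).det ≠ 0 := by
    intro e
    have := congrArg f e
    rw [Matrix.det_fin_two, map_sub, map_mul, map_mul, map_zero] at this
    simp only [Matrix.of_apply, hN] at this
    have h1 : G i₀ j₀ * G i₀ j₀ / (D * D) * D = 0 := by
      conv_lhs => arg 2; rw [hD, Matrix.det_fin_two]
      rw [← this]; field_simp
    simp [h0, hD0] at h1
  refine ⟨Matrix.ProjGenLinGroup.mk (GeneralLinearGroup.mkOfDetNeZero (Matrix.of N) hNd), ?_⟩
  have e : GeneralLinearGroup.map f (GeneralLinearGroup.mkOfDetNeZero (Matrix.of N) hNd) =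
      GeneralLinearGroup.scalar (Fin 2) (Units.mk0 _ (div_ne_zero h0 hD0)) * g := by
    refine Units.ext (Matrix.ext fun i j => ?_)
    show f (N i j) = (Matrix.scalar (Fin 2) (G i₀ j₀ / D) * G) i j
    rw [hN, Matrix.scalar_apply, Matrix.diagonal_mul]
    ring
  rw [DicksonField.pglMap_mk, e, map_mul, Matrix.ProjGenLinGroup.mk_scalar, one_mul]

end Cfsg.Agent.Forms.DicksonPGL
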