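import Mathlib
import Cfsg.Agent.Lib.Forms.DicksonPGL.Basic
import Cfsg.Agent.Lib.Classical.Torus

/-!
# The normaliser of a torus in `PGL₂(q)`
-/

set_option autoImplicit false
set_option linter.unusedSectionVars false

open scoped Classical

namespace Cfsg.Agent.Forms.DicksonPGL

open Matrix
open scoped MatrixGroups

variable {F : Type*} [Field F] [Fintype F]

local notation "PP" => Matrix.ProjGenLinGroup (Fin 2) F
local notation "mk'" => Matrix.ProjGenLinGroup.mk (n := Fin 2) (R := F)
local notation "M2" => Matrix (Fin 2) (Fin 2) F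

/-- semisimple non-central elements of `SL₂` -/
structure Semisimple (X : SL(2, F)) : Prop where
  nonscalar : ∀ a : F, (X : M2) ≠ a • (1 : M2)
  disc : (X : M2).trace * (X : M2).trace ≠ 4

theorem semisimple_of_pi (p : ℕ) [Fact p.Prime] [CharP F p] (X : SL(2, F))
    (h1 : KleinPSL.pi F X ≠ 1) (hp : orderOf (KleinPSL.pi F X) ≠ p) : Semisimple X := by
  refine ⟨fun a ha => h1 (KleinPSL.pi_eq_one.2 ?_), fun h => hp ((DicksonAction.orderOf_iff p X h1).2 h)⟩
  have hd := X.2
  rw [ha, Matrix.det_smul, Fintype.card_fin, Matrix.det_one, mul_one, pow_two] at hd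
  rcases mul_self_eq_one_iff.1 hd with rfl | rfl
  · exact Or.inl (Subtype.ext (by rw [ha, one_smul, Matrix.SpecialLinearGroup.coe_one]))
  · exact Or.inr (Subtype.ext (by
      rw [ha, neg_one_smul, Matrix.SpecialLinearGroup.coe_neg, Matrix.SpecialLinearGroup.coe_one]))

section facts

variable {X : SL(2, F)}

theorem sq_eq : (X : M2) * X = (X : M2).trace • (X : M2) - 1 := DicksonAction.sq_eq_trace X

theorem eq_zero_of_smul_add (hX : Semisimple X) {a b : F} (h : a • (1 : M2) + b • (X : M2) = 0) :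
    a = 0 ∧ b = 0 := by
  rcases eq_or_ne b 0 with rfl | hb
  · rw [zero_smul, add_zero, smul_eq_zero] at h
    exact ⟨h.resolve_right one_ne_zero, rfl⟩
  · refine absurd ?_ (hX.nonscalar (-(a / b)))
    have : (X : M2) = b⁻¹ • (b • (X : M2)) := by rw [smul_smul, inv_mul_cancel₀ hb, one_smul]
    rw [this, eq_neg_of_add_eq_zero_right h, smul_neg, smul_smul, neg_smul, inv_mul_eq_div]

theorem commutant (hX : Semisimple X) {h : M2} (hc : h * X = (X : M2) * h) :
    ∃ a b : F, h = a • (1 : M2) + b • (X : M2) := by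
  set M := (X : M2) with hM
  have e00 := congrFun (congrFun hc 0) 0
  have e01 := congrFun (congrFun hc 0) 1
  have e10 := congrFun (congrFun hc 1) 0
  simp [Matrix.mul_apply, Fin.sum_univ_two] at e00 e01 e10
  by_cases h01 : M 0 1 = 0
  · by_cases h10 : M 1 0 = 0
    · have hne : M 0 0 - M 1 1 ≠ 0 := fun e => hX.nonscalar (M 0 0) (by
        rw [← hM]; ext i j; fin_cases i <;> fin_cases j <;> simp [h01, h10]
        exact (sub_eq_zero.1 e).symm)
      have k01 : h 0 1 = 0 := (mul_eq_zero.1
        (by linear_combination -e01 + (h 0 0 - h 1 1) * h01 : h 0 1 * (M 0 0 - M 1 1) = 0)).resolve_right hne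
      have k10 : h 1 0 = 0 := (mul_eq_zero.1
        (by linear_combination e10 + (h 0 0 - h 1 1) * h10 : h 1 0 * (M 0 0 - M 1 1) = 0)).resolve_right hne
      refine ⟨h 0 0 - (h 0 0 - h 1 1) / (M 0 0 - M 1 1) * M 0 0, (h 0 0 - h 1 1) / (M 0 0 - M 1 1), ?_⟩
      ext i j
      fin_cases i <;> fin_cases j <;> simp [h01, h10, k01, k10]
      field_simp; ring
    · refine ⟨h 0 0 - h 1 0 / M 1 0 * M 0 0, h 1 0 / M 1 0, ?_⟩
      ext i j
      fin_cases i <;> fin_cases j <;> simp [h10]
      · field_simp; linear_combination e00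
      · field_simp; linear_combination e10
  · refine ⟨h 0 0 - h 0 1 / M 0 1 * M 0 0, h 0 1 / M 0 1, ?_⟩
    ext i j
    fin_cases i <;> fin_cases j <;> simp [h01]
    · field_simp; linear_combination -e00
    · field_simp; linear_combination -e01

/-- the centraliser in `GL₂` -/
def cen (X : SL(2, F)) : Subgroup (GL (Fin 2) F) :=
  Subgroup.centralizer {Matrix.SpecialLinearGroup.toGL X}

/-- the elements fixing or inverting `X` -/
def nx (X : SL(2, F)) : Subgroup (GL (Fin 2) F) where
  carrier := {h | MulAut.conj h (Matrix.SpecialLinearGroup.toGL X) = Matrix.SpecialLinearGroup.toGL X ∨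
    MulAut.conj h (Matrix.SpecialLinearGroup.toGL X) = (Matrix.SpecialLinearGroup.toGL X)⁻¹}
  one_mem' := Or.inl (by simp)
  mul_mem' := by
    rintro a b (ha | ha) (hb | hb) <;>
      simp only [Set.mem_setOf_eq, map_mul, MulAut.mul_apply, hb, map_inv, ha, inv_inv] <;> simp
  inv_mem' := by
    rintro a (ha | ha)
    · left
      rw [map_inv, MulAut.inv_apply, MulEquiv.symm_apply_eq, ha]
    · right
      rw [map_inv (MulAut.conj), MulAut.inv_apply, MulEquiv.symm_apply_eq, map_inv, ha, inv_inv]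

theorem mem_cen {h : GL (Fin 2) F} : h ∈ cen X ↔ (h : M2) * X = (X : M2) * h := by
  rw [cen, Subgroup.mem_centralizer_singleton_iff, Units.ext_iff, Units.val_mul, Units.val_mul]
  rfl

theorem cen_le_nx : cen X ≤ nx X := fun h hh => Or.inl (by
  rw [MulAut.conj_apply, Subgroup.mem_centralizer_singleton_iff.1 hh, mul_inv_cancel_right])

theorem center_le_cen : Subgroup.center (GL (Fin 2) F) ≤ cen X := Subgroup.center_le_centralizer _

theorem coe_inv : (((Matrix.SpecialLinearGroup.toGL X)⁻¹ : GL (Fin 2) F) : M2) =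
    (X : M2).trace • (1 : M2) - X := by
  refine (eq_comm.1 (left_inv_eq_right_inv (a := (X : M2)) ?_ ?_))
  · rw [sub_mul, smul_mul_assoc, one_mul, sq_eq, sub_sub_cancel]
  · exact (Matrix.SpecialLinearGroup.toGL X).mul_inv

theorem nx_cases {h : GL (Fin 2) F} (hh : h ∈ nx X) : h ∈ cen X ∨
    (h : M2) * X = ((X : M2).trace • (1 : M2) - X) * h := by
  rcases hh with hh | hh <;> rw [MulAut.conj_apply, mul_inv_eq_iff_eq_mul, Units.ext_iff, Units.val_mul,
    Units.val_mul] at hh
  · exact Or.inl (mem_cen.2 hh)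
  · rw [coe_inv] at hh
    exact Or.inr hh

theorem not_both (hX : Semisimple X) {h : GL (Fin 2) F} (h1 : h ∈ cen X)
    (h2 : (h : M2) * X = ((X : M2).trace • (1 : M2) - X) * h) : False := by
  rw [mem_cen.1 h1] at h2
  have e : (X : M2) = (X : M2).trace • (1 : M2) - X := (Units.mul_left_inj h).1 h2
  have e' : (-(X : M2).trace) • (1 : M2) + (2 : F) • (X : M2) = 0 := by
    rw [neg_smul, two_smul, neg_add_eq_sub, sub_eq_zero]
    exact eq_sub_iff_add_eq.1 e
  obtain ⟨ht, h2⟩ := eq_zero_of_smul_add hX e'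
  refine hX.disc ?_
  rw [neg_eq_zero.1 ht, zero_mul, show (4 : F) = 2 * 2 by norm_num, h2, zero_mul]

theorem mul_self_scalar (hX : Semisimple X) {h : GL (Fin 2) F}
    (hh : (h : M2) * X = ((X : M2).trace • (1 : M2) - X) * h) :
    (mk' h) * (mk' h) = 1 := by
  have ht : (h : M2).trace = 0 := by
    by_contra hne
    refine not_both hX (mem_cen.2 ?_) hh
    have hCH : (h : M2) * h = (h : M2).trace • (h : M2) - (h : M2).det • (1 : M2) := by
      ext i j
      fin_cases i <;> fin_cases j <;>
        simp [Matrix.mul_apply, Fin.sum_univ_two, Matrix.det_fin_two, Matrix.trace_fin_two] <;> ring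
    have h1 : (h : M2) * h * X = (X : M2) * ((h : M2) * h) := by
      rw [mul_assoc, hh, ← mul_assoc, mul_sub, mul_smul_comm, mul_one, hh]
      simp only [sub_mul, smul_mul_assoc, one_mul, mul_assoc]
      abel
    rw [hCH, sub_mul, mul_sub, smul_mul_assoc, smul_mul_assoc, mul_smul_comm, mul_smul_comm, one_mul,
      mul_one, sub_left_inj] at h1
    exact smul_right_injective _ hne h1
  rw [← map_mul, Matrix.ProjGenLinGroup.mk_eq_one, GeneralLinearGroup.center_eq_range_scalar]
  refine ⟨Units.mk0 (-(h : M2).det) (neg_ne_zero.2 h.det_ne_zero), Units.ext ?_⟩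
  rw [Matrix.trace_fin_two] at ht
  ext i j
  fin_cases i <;> fin_cases j <;> simp [Matrix.mul_apply, Fin.sum_univ_two, Matrix.det_fin_two]
  · linear_combination -((h : M2) 0 0) * ht
  · linear_combination -((h : M2) 0 1) * ht
  · linear_combination -((h : M2) 1 0) * ht
  · linear_combination -((h : M2) 1 1) * ht

theorem inverts (hX : Semisimple X) {h z : GL (Fin 2) F}
    (hh : (h : M2) * X = ((X : M2).trace • (1 : M2) - X) * h) (hz : z ∈ cen X) :
    mk' h * mk' z * (mk' h)⁻¹ = (mk' z)⁻¹ := by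
  obtain ⟨a, b, hab⟩ := commutant hX (mem_cen.1 hz)
  rw [eq_inv_iff_mul_eq_one, ← map_inv, ← map_mul, ← map_mul, ← map_mul, Matrix.ProjGenLinGroup.mk_eq_one,
    GeneralLinearGroup.center_eq_range_scalar]
  set t := (X : M2).trace with htdef
  have e1 : (h : M2) * z * ((h⁻¹ : GL (Fin 2) F) : M2) = (a + b * t) • (1 : M2) + (-b) • (X : M2) := by
    have e2 : (h : M2) * z = ((a + b * t) • (1 : M2) + (-b) • (X : M2)) * h := by
      rw [hab, mul_add, mul_smul_comm, mul_smul_comm, mul_one, hh, sub_mul, smul_mul_assoc, one_mul,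
        smul_sub, smul_smul, add_mul, smul_mul_assoc, smul_mul_assoc, one_mul, add_smul, neg_smul]
      abel
    rw [e2, mul_assoc, ← Units.val_mul, mul_inv_cancel, Units.val_one, mul_one]
  have e : ((h * z * h⁻¹ * z : GL (Fin 2) F) : M2) = (a * a + a * b * t + b * b) • (1 : M2) := by
    rw [Units.val_mul, Units.val_mul, Units.val_mul, e1, hab]
    simp only [add_mul, mul_add, smul_mul_assoc, mul_smul_comm, one_mul, mul_one, sq_eq, ← htdef]
    match_scalars <;> ring
  have hne : a * a + a * b * t + b * b ≠ 0 := fun e0 => by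
    rw [e0, zero_smul] at e
    exact Units.ne_zero _ e
  refine ⟨Units.mk0 _ hne, Units.ext ?_⟩
  rw [e]
  exact (Matrix.smul_one_eq_diagonal _).symm

theorem exists_flip (hX : Semisimple X) : ∃ h : GL (Fin 2) F,
    (h : M2) * X = ((X : M2).trace • (1 : M2) - X) * h := by
  set M := (X : M2) with hM
  obtain ⟨α, β, γ, hlin, hdet⟩ : ∃ α β γ : F,
      α * (M 0 0 - M 1 1) + β * M 1 0 + γ * M 0 1 = 0 ∧ -(α * α) - β * γ ≠ 0 := by
    by_cases h01 : M 0 1 = 0
    · by_cases h10 : M 1 0 = 0
      · exact ⟨0, 1, 1, by rw [h01, h10]; ring, by simp⟩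
      · exact ⟨M 1 0, -(M 0 0 - M 1 1), 0, by rw [h01]; ring,
          by simp [h10]⟩
    · by_cases h10 : M 1 0 = 0
      · exact ⟨M 0 1, 0, -(M 0 0 - M 1 1), by rw [h10]; ring, by simp [h01]⟩
      · exact ⟨0, M 0 1, -M 1 0, by ring, by simp [h01, h10]⟩
  refine ⟨GeneralLinearGroup.mkOfDetNeZero !![α, β; γ, -α] (by simpa [Matrix.det_fin_two] using hdet), ?_⟩
  rw [GeneralLinearGroup.val_mkOfDetNeZero, Matrix.trace_fin_two]
  ext i j
  fin_cases i <;> fin_cases j <;> simp [Matrix.mul_apply, Fin.sum_univ_two]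
  · linear_combination hlin
  · ring
  · ring
  · linear_combination hlin

/-- the torus -/
def torus (X : SL(2, F)) : Subgroup PP := (cen X).map mk'

/-- its normaliser -/
def torusN (X : SL(2, F)) : Subgroup PP := (nx X).map mk'

theorem torus_le : torus X ≤ torusN X := Subgroup.map_mono cen_le_nx

theorem self_mem_torus : mk' (Matrix.SpecialLinearGroup.toGL X) ∈ torus X :=
  ⟨_, mem_cen.2 rfl, rfl⟩

theorem mk_mem_torus {h : GL (Fin 2) F} : mk' h ∈ torus X ↔ h ∈ cen X := by
  refine ⟨?_, fun hh => ⟨h, hh, rfl⟩⟩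
  rintro ⟨g, hg, hgh⟩
  have : g⁻¹ * h ∈ cen X := center_le_cen (Matrix.ProjGenLinGroup.mk_eq_one.1 (by
    rw [map_mul, map_inv, hgh, inv_mul_cancel]))
  simpa using (cen X).mul_mem hg this

/-- an element moving `X` into the torus lies in the normaliser -/
theorem mem_torusN_of_conj (hX : Semisimple X) {g : PP}
    (hg : g * mk' (Matrix.SpecialLinearGroup.toGL X) * g⁻¹ ∈ torus X) : g ∈ torusN X := by
  obtain ⟨h, rfl⟩ := Matrix.ProjGenLinGroup.mk_surjective g
  rw [← map_inv, ← map_mul, ← map_mul, mk_mem_torus] at hg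
  refine ⟨h, ?_, rfl⟩
  obtain ⟨a, b, hab⟩ := commutant hX (mem_cen.1 hg)
  rw [Units.val_mul, Units.val_mul] at hab
  change (h : M2) * (X : M2) * _ = _ at hab
  set t := (X : M2).trace with ht
  have htr : 2 * a + b * t = t := by
    have e := congrArg Matrix.trace hab
    rw [Matrix.trace_mul_cycle, ← Units.val_mul, inv_mul_cancel, Units.val_one, one_mul, Matrix.trace_add,
      Matrix.trace_smul, Matrix.trace_smul, Matrix.trace_one, Fintype.card_fin, ← ht] at e
    simp at e
    linear_combination -e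
  have hdet : a * a + a * b * t + b * b = 1 := by
    have e := congrArg Matrix.det hab
    rw [Matrix.det_mul, Matrix.det_mul, mul_right_comm, ← Matrix.det_mul, ← Units.val_mul, mul_inv_cancel,
      Units.val_one, Matrix.det_one, one_mul, Matrix.SpecialLinearGroup.det_coe, Matrix.det_fin_two] at e
    simp at e
    have hd := X.2
    rw [Matrix.det_fin_two] at hd
    rw [ht, Matrix.trace_fin_two]
    linear_combination -e - b * b * hd
  have hb : (b - 1) * (b + 1) = 0 := by
    have : (b - 1) * (b + 1) * (t * t - 4) = 0 := by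
      linear_combination -4 * hdet + (2 * a + b * t + t) * htr
    exact (mul_eq_zero.1 this).resolve_right (sub_ne_zero.2 hX.disc)
  have key : (a = 0 ∧ b = 1) ∨ (a = t ∧ b = -1) := by
    rcases mul_eq_zero.1 hb with hb | hb
    · obtain rfl : b = 1 := sub_eq_zero.1 hb
      rcases mul_eq_zero.1 (by linear_combination hdet : a * (a + t) = 0) with h0 | h0
      · exact Or.inl ⟨h0, rfl⟩
      · rcases mul_eq_zero.1 (by linear_combination -htr + 2 * h0 : (2 : F) * t = 0) with h2 | h2
        · exact Or.inr ⟨by linear_combination h0 - t * h2, by linear_combination h2⟩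
        · exact Or.inl ⟨by linear_combination h0 - h2, rfl⟩
    · obtain rfl : b = -1 := eq_neg_of_add_eq_zero_left hb
      rcases mul_eq_zero.1 (by linear_combination hdet : a * (a - t) = 0) with h0 | h0
      · have ht2 : 2 * t = 0 := by linear_combination -htr + 2 * h0
        rcases mul_eq_zero.1 ht2 with h2 | h2
        · exact Or.inl ⟨h0, by linear_combination -h2⟩
        · exact Or.inr ⟨h0.trans h2.symm, rfl⟩
      · exact Or.inr ⟨sub_eq_zero.1 h0, rfl⟩
  rcases key with ⟨rfl, rfl⟩ | ⟨rfl, rfl⟩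
  · left
    refine Units.ext (hab.trans ?_)
    rw [zero_smul, zero_add, one_smul]
    rfl
  · right
    refine Units.ext (hab.trans ?_)
    rw [coe_inv, neg_one_smul, sub_eq_add_neg]

end facts

end Cfsg.Agent.Forms.DicksonPGL
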