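import Mathlib
import Cfsg.Agent.Lib.Forms.DicksonPGL.Torus
import Cfsg.Agent.Lib.Forms.DicksonShapes

/-!
# The torus normaliser is dihedral
-/

set_option autoImplicit false
set_option linter.unusedSectionVars false

open scoped Classical

namespace Cfsg.Agent.Forms.DicksonPGL

open Matrix
open scoped MatrixGroups

variable {F : Type*} [Field F] [Fintype F]

local notation "PP" => Matrix.ProjGenLinGroup (Fin 2) F
local notation "mk'" => Matrix.ProjGenLinGroup.mk (n := Fin 2) (R := F)
local notation "M2" => Matrix (Fin 2) (Fin 2) F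

variable {X : SL(2, F)}

theorem mk_eq_one_smul {h : GL (Fin 2) F} : mk' h = 1 ↔ ∃ c : F, (h : M2) = c • (1 : M2) := by
  rw [Matrix.ProjGenLinGroup.mk_eq_one, GeneralLinearGroup.center_eq_range_scalar]
  constructor
  · rintro ⟨r, rfl⟩
    exact ⟨r, (Matrix.smul_one_eq_diagonal _).symm⟩
  · rintro ⟨c, hc⟩
    have hc0 : c ≠ 0 := fun e => Units.ne_zero h (by rw [hc, e, zero_smul])
    exact ⟨Units.mk0 c hc0, Units.ext ((Matrix.smul_one_eq_diagonal _).symm.trans hc.symm)⟩

theorem det_comb (a b : F) :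
    (a • (1 : M2) + b • (X : M2)).det = a * a + a * b * (X : M2).trace + b * b := by
  have hd := X.2
  rw [Matrix.det_fin_two] at hd ⊢
  simp [Matrix.trace_fin_two]
  linear_combination b * b * hd

theorem torus_split (hX : Semisimple X) {l : F} (hl : l * l - (X : M2).trace * l + 1 = 0) :
    IsCyclic (torus X) ∧ Nat.card (torus X) = Fintype.card F - 1 ∧
      ∀ r : F, r ≠ 0 → ∃ h ∈ cen X, (h : M2).det = r := by
  set t := (X : M2).trace with ht
  set M := (X : M2) with hM
  have hlm : l - (t - l) ≠ 0 := fun e => hX.disc (by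
    rw [← hM, ← ht]; linear_combination (l - (t - l)) * e - 4 * hl)
  set E : M2 := (l - (t - l))⁻¹ • (M - (t - l) • (1 : M2)) with hE
  have hE2 : E * E = E := by
    rw [hE]
    simp only [smul_mul_assoc, mul_smul_comm, smul_smul, sub_mul, mul_sub, one_mul, mul_one,
      show M * M = t • M - 1 from sq_eq]
    match_scalars
    · field_simp; ring
    · field_simp; linear_combination -hl
  have hE0 : ∀ a b : F, a • E + b • (1 : M2) = 0 → a = 0 ∧ b = 0 := by
    intro a b h
    have h' : (-(a * (l - (t - l))⁻¹ * (t - l)) + b) • (1 : M2) + (a * (l - (t - l))⁻¹) • M = 0 := by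
      rw [← h, hE]; module
    obtain ⟨h1, h2⟩ := eq_zero_of_smul_add hX h'
    have ha : a = 0 := (mul_eq_zero.1 h2).resolve_right (inv_ne_zero hlm)
    rw [ha] at h1
    exact ⟨ha, by linear_combination h1⟩
  let φ : Fˣ → M2 := fun u => (u : F) • E + (1 - E)
  have hφ : ∀ u v : Fˣ, φ (u * v) = φ u * φ v := by
    intro u v
    simp only [φ, Units.val_mul, add_mul, mul_add, smul_mul_assoc, mul_smul_comm, smul_smul, sub_mul,
      mul_sub, one_mul, mul_one, hE2]
    module
  have hφ1 : φ 1 = 1 := by simp [φ]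
  let θ : Fˣ →* GL (Fin 2) F :=
    { toFun := fun u => ⟨φ u, φ u⁻¹, by rw [← hφ, mul_inv_cancel, hφ1], by rw [← hφ, inv_mul_cancel, hφ1]⟩
      map_one' := Units.ext hφ1
      map_mul' := fun u v => Units.ext (hφ u v) }
  have hθc : ∀ u, θ u ∈ cen X := fun u => mem_cen.2 (by
    show φ u * M = M * φ u
    simp only [φ, hE, add_mul, mul_add, smul_mul_assoc, mul_smul_comm, sub_mul, mul_sub, one_mul, mul_one])
  let ψ : Fˣ →* torus X := ((mk').comp θ).codRestrict _ fun u => ⟨θ u, hθc u, rfl⟩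
  have hψ : Function.Bijective ψ := by
    constructor
    · rw [injective_iff_map_eq_one]
      intro u hu
      obtain ⟨c, hc⟩ := mk_eq_one_smul.1 (congrArg Subtype.val hu)
      have : ((u : F) - 1) • E + (1 - c) • (1 : M2) = 0 := by
        have hc' : (u : F) • E + (1 - E) = c • (1 : M2) := hc
        rw [sub_smul, sub_smul, one_smul, one_smul, ← sub_eq_zero.2 hc']
        abel
      exact Units.ext (sub_eq_zero.1 (hE0 _ _ this).1)
    · rintro ⟨_, h, hh, rfl⟩
      obtain ⟨a, b, hab⟩ := commutant hX (mem_cen.1 hh)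
      have hd : (a + b * l) * (a + b * (t - l)) ≠ 0 := by
        have : (h : M2).det = (a + b * l) * (a + b * (t - l)) := by
          rw [hab, det_comb, ← hM, ← ht]
          linear_combination b * b * hl
        rw [← this]; exact h.det_ne_zero
      obtain ⟨hd1, hd2⟩ := mul_ne_zero_iff.1 hd
      refine ⟨Units.mk0 _ (div_ne_zero hd1 hd2), Subtype.ext ?_⟩
      show mk' (θ _) = mk' h
      rw [Matrix.ProjGenLinGroup.mk_eq_mk_iff]
      refine ⟨Units.mk0 _ hd2, Units.ext ?_⟩
      show φ _ * Matrix.scalar (Fin 2) (a + b * (t - l)) = (h : M2)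
      rw [Matrix.scalar_apply, ← Matrix.smul_one_eq_diagonal, mul_smul_comm, mul_one, hab, ← hM]
      simp only [φ, hE, Units.val_mk0]
      match_scalars <;> field_simp <;> ring
  refine ⟨isCyclic_of_surjective ψ hψ.2, ?_, fun r hr => ⟨θ (Units.mk0 r hr), hθc _, ?_⟩⟩
  · rw [← Nat.card_congr (Equiv.ofBijective ψ hψ), Nat.card_units, Nat.card_eq_fintype_card]
  · show (φ (Units.mk0 r hr)).det = r
    have e : φ (Units.mk0 r hr) = (1 - (r - 1) * (l - (t - l))⁻¹ * (t - l)) • (1 : M2) +
        ((r - 1) * (l - (t - l))⁻¹) • M := by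
      simp only [φ, hE, Units.val_mk0]
      module
    rw [e, det_comb, ← hM, ← ht]
    field_simp
    linear_combination (r - 1) ^ 2 * hl

theorem torus_nonsplit (hX : Semisimple X) (hl : ∀ l : F, l * l - (X : M2).trace * l + 1 ≠ 0) :
    IsCyclic (torus X) ∧ Nat.card (torus X) = Fintype.card F + 1 ∧
      ∀ r : F, r ≠ 0 → ∃ h ∈ cen X, (h : M2).det = r := by
  set t := (X : M2).trace with ht
  set M := (X : M2) with hM
  haveI : Fact (∀ r : F, r ^ 2 ≠ -1 + t * r) := ⟨fun r hr => hl r (by linear_combination hr)⟩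
  let φ : QuadraticAlgebra F (-1) t →* M2 :=
    { toFun := fun z => z.re • (1 : M2) + z.im • M
      map_one' := by rw [QuadraticAlgebra.re_one, QuadraticAlgebra.im_one, one_smul, zero_smul, add_zero]
      map_mul' := fun z w => by
        simp [QuadraticAlgebra.re_mul, QuadraticAlgebra.im_mul, add_mul, mul_add, smul_mul_assoc,
          mul_smul_comm, one_mul, mul_one, show M * M = t • M - 1 from sq_eq]
        module }
  let θ : (QuadraticAlgebra F (-1) t)ˣ →* GL (Fin 2) F := Units.map φ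
  have hθc : ∀ u, θ u ∈ cen X := fun u => mem_cen.2 (by
    show (_ • (1 : M2) + _ • M) * M = M * (_ • (1 : M2) + _ • M)
    simp only [add_mul, mul_add, smul_mul_assoc, mul_smul_comm, one_mul, mul_one])
  let ψ : (QuadraticAlgebra F (-1) t)ˣ →* torus X :=
    ((mk').comp θ).codRestrict _ fun u => ⟨θ u, hθc u, rfl⟩
  have hψ : Function.Surjective ψ := by
    rintro ⟨_, h, hh, rfl⟩
    obtain ⟨a, b, hab⟩ := commutant hX (mem_cen.1 hh)
    have hne : (⟨a, b⟩ : QuadraticAlgebra F (-1) t) ≠ 0 := fun e => by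
      have ha := congrArg QuadraticAlgebra.re e
      have hb := congrArg QuadraticAlgebra.im e
      simp at ha hb
      exact Units.ne_zero h (by rw [hab, ha, hb, zero_smul, zero_smul, add_zero])
    refine ⟨Units.mk0 _ hne, Subtype.ext (congrArg mk' (Units.ext ?_))⟩
    exact hab.symm
  refine ⟨isCyclic_of_surjective ψ hψ, ?_, fun r hr => ?_⟩
  · have hker : ψ.ker = (Units.map (algebraMap F (QuadraticAlgebra F (-1) t)).toMonoidHom).range := by
      ext u
      rw [MonoidHom.mem_ker]
      constructor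
      · intro hu
        obtain ⟨c, hc⟩ := mk_eq_one_smul.1 (congrArg Subtype.val hu)
        have hc' : ((u : QuadraticAlgebra F (-1) t).re - c) • (1 : M2) +
            (u : QuadraticAlgebra F (-1) t).im • M = 0 := by
          rw [sub_smul, ← sub_eq_zero.2 hc]
          show _ = _ • (1 : M2) + _ • M - _
          abel
        obtain ⟨h1, h2⟩ := eq_zero_of_smul_add hX hc'
        have hc0 : (u : QuadraticAlgebra F (-1) t).re ≠ 0 := fun e =>
          Units.ne_zero u (by ext <;> simp [e, h2])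
        exact ⟨Units.mk0 _ hc0, Units.ext (by ext <;> simp [h2])⟩
      · rintro ⟨c, rfl⟩
        refine Subtype.ext (mk_eq_one_smul.2 ⟨(c : F), ?_⟩)
        show _ • (1 : M2) + _ • M = _
        simp
    have hinj : Function.Injective
        (Units.map (algebraMap F (QuadraticAlgebra F (-1) t)).toMonoidHom) :=
      Units.map_injective (algebraMap F _).injective
    have h := ψ.ker.card_mul_index
    rw [Subgroup.index_ker, MonoidHom.range_eq_top.2 hψ, Subgroup.card_top, hker,
      ← Nat.card_congr (MonoidHom.ofInjective hinj).toEquiv, Classical.Linear.natCard_units_eq,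
      Classical.Torus.natCard_quad_units] at h
    have hq := Fintype.one_lt_card (α := F)
    refine Nat.eq_of_mul_eq_mul_left (n := Fintype.card F - 1) (by omega) (h.trans ?_)
    rw [mul_comm, ← Nat.sq_sub_sq, one_pow]
  · obtain ⟨z, hz⟩ := Classical.Torus.norm_surjective (A := (-1 : F)) (B := t) r hr
    have hz0 : z ≠ 0 := fun e => by rw [e, QuadraticAlgebra.norm_zero] at hz; exact hr hz.symm
    refine ⟨θ (Units.mk0 z hz0), hθc _, ?_⟩
    show (z.re • (1 : M2) + z.im • M).det = r
    rw [det_comb, ← hM, ← ht, ← hz, QuadraticAlgebra.norm_def]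
    ring

theorem torus_facts (hX : Semisimple X) :
    IsCyclic (torus X) ∧ (∀ r : F, r ≠ 0 → ∃ h ∈ cen X, (h : M2).det = r) ∧
      (Nat.card (torus X) = Fintype.card F - 1 ∨ Nat.card (torus X) = Fintype.card F + 1) := by
  by_cases h : ∃ l : F, l * l - (X : M2).trace * l + 1 = 0
  · obtain ⟨l, hl⟩ := h
    obtain ⟨h1, h2, h3⟩ := torus_split hX hl
    exact ⟨h1, h3, Or.inl h2⟩
  · push Not at h
    obtain ⟨h1, h2, h3⟩ := torus_nonsplit hX h
    exact ⟨h1, h3, Or.inr h2⟩

theorem gcd_mul_torus_inf_L (hX : Semisimple X) :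
    Nat.gcd 2 (Fintype.card F - 1) * Nat.card (torus X ⊓ L F : Subgroup PP) = Nat.card (torus X) := by
  obtain ⟨-, hdet, -⟩ := torus_facts hX
  have hLi : (L F).index = Nat.gcd 2 (Fintype.card F - 1) := by
    have h := (L F).index_mul_card
    rw [natCard_L, natCard_PP, ← DicksonCor.gcd_mul_natCard] at h
    exact Nat.eq_of_mul_eq_mul_right Nat.card_pos h
  have hr : (L F).relIndex (torus X) = Nat.gcd 2 (Fintype.card F - 1) := by
    have hd := Subgroup.relIndex_dvd_index_of_normal (L F) (torus X)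
    rw [hLi] at hd
    rcases (Nat.dvd_prime Nat.prime_two).1 (Nat.gcd_dvd_left 2 (Fintype.card F - 1)) with h | h
    · rw [h] at hd ⊢; exact Nat.dvd_one.1 hd
    · rw [h] at hd ⊢
      rcases (Nat.dvd_prime Nat.prime_two).1 hd with h' | h'
      · exfalso
        have h2 : ringChar F ≠ 2 := fun e => by
          have := FiniteField.even_card_of_char_two e
          have := Nat.gcd_dvd_right 2 (Fintype.card F - 1)
          rw [h] at this
          have := Fintype.card_pos (α := F)
          omega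
        obtain ⟨r, hr⟩ := FiniteField.exists_nonsquare h2
        obtain ⟨z, hz, hzd⟩ := hdet r fun e => hr (e ▸ IsSquare.zero)
        have : mk' z ∈ L F := Subgroup.relIndex_eq_one.1 h' ⟨z, hz, rfl⟩
        rw [mk_mem_L, hzd] at this
        exact hr this
      · exact h'
  have h := Subgroup.relIndex_mul_index (inf_le_left : torus X ⊓ L F ≤ torus X)
  have h1 := (torus X ⊓ L F).index_mul_card
  have h2 := (torus X).index_mul_card
  rw [Subgroup.inf_relIndex_left, hr] at h
  rw [← h, ← h2, mul_assoc, mul_comm (torus X).index, mul_left_comm] at h1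
  exact (Nat.eq_of_mul_eq_mul_left (Nat.pos_of_ne_zero Subgroup.index_ne_zero_of_finite)
    (by rw [← h1]; ring))

/-- in a group between `L` and `PGL₂` the torus normaliser is dihedral -/
theorem torusN_dihedral (hX : Semisimple X) {G0 : Subgroup PP} (hG : L F ≤ G0) :
    Nat.card (torusN X ⊓ G0 : Subgroup PP) = 2 * Nat.card (torus X ⊓ G0 : Subgroup PP) ∧
    Nonempty ((torusN X ⊓ G0 : Subgroup PP) ≃* DihedralGroup (Nat.card (torus X ⊓ G0 : Subgroup PP))) ∧
    ∃ c ∈ torusN X ⊓ G0, ∃ y ∈ torusN X ⊓ G0,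
      orderOf c = Nat.card (torus X ⊓ G0 : Subgroup PP) ∧ y * c * y⁻¹ = c⁻¹ := by
  obtain ⟨hcyc, hdet, -⟩ := torus_facts hX
  obtain ⟨h₀, hh₀⟩ := exists_flip hX
  obtain ⟨z, hz, hzd⟩ := hdet ((h₀ : M2).det)⁻¹ (inv_ne_zero h₀.det_ne_zero)
  obtain ⟨y, hy⟩ : ∃ y, y = h₀ * z := ⟨_, rfl⟩
  have hflip : (y : M2) * X = ((X : M2).trace • (1 : M2) - X) * y := by
    rw [hy, Units.val_mul, mul_assoc, mem_cen.1 hz, ← mul_assoc, hh₀, mul_assoc]
  have hyN : mk' y ∈ torusN X := by
    refine ⟨y, Or.inr ?_, rfl⟩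
    rw [MulAut.conj_apply, mul_inv_eq_iff_eq_mul, Units.ext_iff, Units.val_mul, Units.val_mul, coe_inv]
    exact hflip

  have hyG : mk' y ∈ G0 := hG (mk_mem_L.2 ⟨1, by
    rw [hy, Units.val_mul, Matrix.det_mul, hzd, mul_inv_cancel₀ h₀.det_ne_zero, one_mul]⟩)
  have hyT : mk' y ∉ torus X := fun h => not_both hX (mk_mem_torus.1 h) hflip
  set N : Subgroup PP := torusN X ⊓ G0 with hN
  set Z : Subgroup PP := torus X ⊓ G0 with hZ
  have hZN : Z ≤ N := inf_le_inf_right _ torus_le
  -- elements outside the torus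
  have hout : ∀ g ∈ torusN X, g ∉ torus X →
      g * g = 1 ∧ g * mk' y ∈ torus X ∧ ∀ c ∈ torus X, g * c * g⁻¹ = c⁻¹ := by
    rintro _ ⟨h, hh, rfl⟩ hn
    rcases nx_cases hh with h1 | h1
    · exact absurd ⟨h, h1, rfl⟩ hn
    · refine ⟨mul_self_scalar hX h1, ⟨h * y, mem_cen.2 ?_, map_mul _ _ _⟩, ?_⟩
      · rw [Units.val_mul, mul_assoc, hflip, ← mul_assoc, mul_sub, mul_smul_comm, mul_one, h1]
        simp only [sub_mul, smul_mul_assoc, one_mul, mul_assoc]
        abel
      · rintro _ ⟨c, hc, rfl⟩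
        exact inverts hX h1 hc
  have hidx : (Z.subgroupOf N).index = 2 := by
    rw [Subgroup.index_eq_two_iff]
    refine ⟨⟨mk' y, hyN, hyG⟩, fun b => ?_⟩
    simp only [Subgroup.mem_subgroupOf, hZ, Subgroup.mem_inf, Subgroup.coe_mul, xor_iff_iff_not]
    have hbG : (b : PP) ∈ G0 := b.2.2
    simp only [hbG, mul_mem hbG hyG, and_true]
    constructor
    · intro h1 h2
      exact hyT ((Subgroup.mul_mem_cancel_left _ h2).1 h1)
    · intro h1
      exact (hout _ b.2.1 h1).2.1
  haveI : IsCyclic Z := Subgroup.isCyclic_of_le inf_le_left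
  have hc : IsCyclic (Z.subgroupOf N) :=
    isCyclic_of_surjective (Subgroup.subgroupOfEquivOfLe hZN).symm (MulEquiv.surjective _)
  obtain ⟨c, hcZ, hco, he⟩ := DicksonShapes.dihedral_of (Z.subgroupOf N) hidx hc (fun g hg => Subtype.ext
    (hout _ g.2.1 fun h => hg ⟨h, g.2.2⟩).1)
  have hcard : Nat.card (Z.subgroupOf N) = Nat.card Z := Nat.card_congr (Subgroup.subgroupOfEquivOfLe hZN).toEquiv
  rw [hco, hcard] at he
  refine ⟨?_, he, (c : PP), c.2, mk' y, ⟨hyN, hyG⟩, ?_, (hout _ hyN hyT).2.2 _ hcZ.1⟩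
  · rw [← (Z.subgroupOf N).index_mul_card, hidx, hcard]
  · rw [Subgroup.orderOf_coe, hco, hcard]

end Cfsg.Agent.Forms.DicksonPGL
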