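import Mathlib
import Cfsg.Agent.Lib.Forms.DicksonPGL.Subfield
import Cfsg.Agent.Lib.Forms.DicksonPGL.TorusStruct
import Cfsg.Agent.Lib.Forms.DicksonPGL.FourCard
import Cfsg.Agent.Lib.Forms.DicksonPGL.Alt5
import Cfsg.Agent.Lib.Forms.DicksonPGL.Shapes
import Cfsg.Agent.Lib.Forms.DicksonMax

/-!
# The maximal subgroups of `PSL₂(q)` and `PGL₂(q)`
-/

set_option autoImplicit false
set_option linter.unusedSectionVars false

open scoped Classical

namespace Cfsg.Agent.Forms.DicksonPGL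

open Matrix MulAction
open scoped MatrixGroups

variable {F : Type*} [Field F] [Fintype F]

local notation "PP" => Matrix.ProjGenLinGroup (Fin 2) F
local notation "PG" => Matrix.ProjectiveSpecialLinearGroup (Fin 2) F
local notation "mk'" => Matrix.ProjGenLinGroup.mk (n := Fin 2) (R := F)
local notation "toP" => Matrix.ProjectiveSpecialLinearGroup.toPGL (n := Fin 2) (R := F)

/-- the possible maximal subgroups -/
def Kind (p : ℕ) (G0 M : Subgroup (Matrix.ProjGenLinGroup (Fin 2) F)) : Prop :=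
  (∃ w : OnePoint F, M = stabW w ⊓ G0) ∨
  (∃ X : SL(2, F), Semisimple X ∧ M = torusN X ⊓ G0) ∨
  ((Fintype.card F).Prime ∧ p ≠ 2 ∧ ∃ (x y : Matrix.ProjGenLinGroup (Fin 2) F) (γ : GL (Fin 2) F) (a b : F),
      Frame x y γ a b ∧ x ∈ L F ∧ y ∈ L F ∧ M = nFour x y ⊓ G0 ∧
      (Nonempty (M.comap Matrix.ProjectiveSpecialLinearGroup.toPGL ≃* DihedralGroup 2) ∨
        Nonempty (M.comap Matrix.ProjectiveSpecialLinearGroup.toPGL ≃* alternatingGroup (Fin 4)) ∨
        Nonempty (M.comap Matrix.ProjectiveSpecialLinearGroup.toPGL ≃* Equiv.Perm (Fin 4)))) ∨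
  (M ≤ L F ∧ p ≠ 2 ∧ Nonempty (M.comap Matrix.ProjectiveSpecialLinearGroup.toPGL ≃* alternatingGroup (Fin 5)) ∧
      ((Fintype.card F = p ∧ (p % 10 = 1 ∨ p % 10 = 9)) ∨
        (Fintype.card F = p ^ 2 ∧ (p % 10 = 3 ∨ p % 10 = 7)))) ∨
  (∃ (K : Type) (_ : Field K) (_ : Fintype K) (f : K →+* F) (γ : GL (Fin 2) F) (m : ℕ),
      m.Prime ∧ Fintype.card K ^ m = Fintype.card F ∧ M = sub f γ ⊓ G0)

theorem center_eq_one (p : ℕ) [Fact p.Prime] [CharP F p] (h4 : 4 ≤ Fintype.card F) {z : PG}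
    (hz : ∀ x : PG, x * z = z * x) : z = 1 := by
  haveI : IsSimpleGroup PG := Classical.Linear.isSimpleGroup_PSL_fin (by norm_num) fun _ => h4
  rcases (inferInstance : (Subgroup.center PG).Normal).eq_bot_or_eq_top with h | h
  · exact Subgroup.mem_bot.1 (h ▸ Subgroup.mem_center_iff.2 hz)
  · exfalso
    obtain ⟨u, v, -, -, hne⟩ := DicksonMax.psl_not_comm F p
    exact hne (Subgroup.mem_center_iff.1 (h ▸ Subgroup.mem_top v) u)

theorem toP_mem_L (x : PG) : toP x ∈ L F := ⟨x, rfl⟩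

theorem map_comap_eq (M : Subgroup PP) : (M.comap toP).map toP = M ⊓ L F := by
  rw [Subgroup.map_comap_eq, inf_comm]; rfl

variable {G0 M : Subgroup (Matrix.ProjGenLinGroup (Fin 2) F)}

theorem normalizes {m : PP} (hm : m ∈ M) :
    ∀ z ∈ (M.comap toP).map toP, m * z * m⁻¹ ∈ (M.comap toP).map toP := by
  rw [map_comap_eq]
  rintro z ⟨hzM, hzL⟩
  exact ⟨M.mul_mem (M.mul_mem hm hzM) (M.inv_mem hm), L_normal.conj_mem _ hzL _⟩

theorem not_L_le_centralizer (p : ℕ) [Fact p.Prime] [CharP F p] (h4 : 4 ≤ Fintype.card F) {z : PG}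
    (hz : z ≠ 1) : ¬ L F ≤ Subgroup.centralizer {toP z} := by
  intro h
  refine hz (center_eq_one p h4 fun x => ?_)
  have := Subgroup.mem_centralizer_singleton_iff.1 (h (toP_mem_L x))
  rw [← map_mul, ← map_mul] at this
  exact Matrix.ProjectiveSpecialLinearGroup.toPGL_injective this

theorem comap_ne_bot (p : ℕ) [Fact p.Prime] [CharP F p] (h4 : 4 ≤ Fintype.card F) (h : MaxIn G0 M) :
    M.comap toP ≠ ⊥ := by
  intro e
  have hML : M ⊓ L F = ⊥ := by rw [← map_comap_eq, e, Subgroup.map_bot]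
  have hcard : Nat.card M ≤ 2 := by
    have hr : (L F).relIndex M = Nat.card M := by
      rw [← Subgroup.inf_relIndex_right, inf_comm, hML, Subgroup.relIndex_bot_left]
    have hd := Subgroup.relIndex_dvd_index_of_normal (L F) M
    have hidx : (L F).index ≤ 2 := by
      have h1 := (L F).index_mul_card
      have h2 := natCard_PP_le (F := F)
      rw [← h1] at h2
      exact Nat.le_of_mul_le_mul_right h2 Nat.card_pos
    rw [← hr]
    exact (Nat.le_of_dvd (Nat.pos_of_ne_zero Subgroup.index_ne_zero_of_finite) hd).trans hidx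
  obtain ⟨z, hz1, hz⟩ : ∃ z : PG, z ≠ 1 ∧ ∀ m ∈ M, m * toP z * m⁻¹ = toP z := by
    by_cases hM1 : M = ⊥
    · obtain ⟨u, v, -, -, hne⟩ := DicksonMax.psl_not_comm F p
      exact ⟨u, fun e => hne (by rw [e, one_mul, mul_one]), fun m hm => by
        rw [hM1, Subgroup.mem_bot] at hm; rw [hm, one_mul, inv_one, mul_one]⟩
    · obtain ⟨⟨t, ht⟩, ht1⟩ := Subgroup.ne_bot_iff_exists_ne_one.1 hM1
      have hall : ∀ m ∈ M, m = 1 ∨ m = t := by
        intro m hm
        by_contra hne
        push Not at hne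
        let k : Fin 3 → M := ![1, ⟨t, ht⟩, ⟨m, hm⟩]
        have hk : Function.Injective k := by
          intro i j e
          have e' := congrArg Subtype.val e
          have ht1' : t ≠ 1 := fun e => ht1 (Subtype.ext e)
          fin_cases i <;> fin_cases j <;>
            simp [k, hne.1, hne.2, ht1', hne.1.symm, hne.2.symm, ht1'.symm] at e' ⊢
        have := Nat.card_le_card_of_injective k hk
        rw [Nat.card_fin] at this
        omega
      have htt : t * t = 1 := by
        rcases hall _ (mul_mem ht ht) with h' | h'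
        · exact h'
        · exact absurd (Subtype.ext (mul_eq_left.1 h')) ht1
      obtain ⟨φ, hφ⟩ := exists_aut toP Matrix.ProjectiveSpecialLinearGroup.toPGL_injective ⊤
        (m := t) (fun z hz => by
          obtain ⟨w, -, rfl⟩ := hz
          obtain ⟨u, hu⟩ := L_normal.conj_mem _ (toP_mem_L w) t
          exact ⟨u, Subgroup.mem_top _, hu⟩)
      by_contra hne
      push Not at hne
      have hfix : MonoidHom.FixedPointFree (φ.toMonoidHom : (⊤ : Subgroup PG) →* (⊤ : Subgroup PG)) := by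
        intro z hz
        by_contra hz1
        obtain ⟨m, hm, hmz⟩ := hne (z : PG) fun e => hz1 (Subtype.ext e)
        rcases hall m hm with rfl | rfl
        · exact hmz (by group)
        · refine hmz ?_
          rw [← hφ]
          exact congrArg (fun w : (⊤ : Subgroup PG) => toP (w : PG)) hz
      have hinv : Function.Involutive φ.toMonoidHom := fun z => Subtype.ext
        (Matrix.ProjectiveSpecialLinearGroup.toPGL_injective (by
          show toP ((φ (φ z) : (⊤ : Subgroup PG)) : PG) = _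
          rw [hφ, hφ]
          calc _ = (t * t) * toP (z : PG) * (t * t)⁻¹ := by group
            _ = _ := by rw [htt, one_mul, inv_one, mul_one]))
      obtain ⟨u, v, -, -, huv⟩ := DicksonMax.psl_not_comm F p
      exact huv (congrArg Subtype.val
        (hfix.commute_all_of_involutive hinv (⟨u, trivial⟩ : (⊤ : Subgroup PG)) ⟨v, trivial⟩).eq)
  have hle : M ≤ Subgroup.centralizer {toP z} := fun m hm =>
    Subgroup.mem_centralizer_singleton_iff.2 (mul_inv_eq_iff_eq_mul.1 (hz m hm))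
  have hzM : toP z ∈ M := h.hmax _ hle (not_L_le_centralizer p h4 hz1)
    ⟨Subgroup.mem_centralizer_singleton_iff.2 rfl, h.amb (toP_mem_L z)⟩
  have : toP z ∈ M ⊓ L F := ⟨hzM, toP_mem_L z⟩
  rw [hML, Subgroup.mem_bot] at this
  exact hz1 (Matrix.ProjectiveSpecialLinearGroup.toPGL_injective (this.trans (map_one _).symm))

theorem not_L_le_torusN (h4 : 4 ≤ Fintype.card F) {X : SL(2, F)} (hX : Semisimple X) :
    ¬ L F ≤ torusN X := by
  refine not_L_le_of_card ?_
  have h1 := (torusN_dihedral hX (le_top : L F ≤ ⊤)).1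
  rw [inf_top_eq, inf_top_eq] at h1
  have hP := natCard_PP_le (F := F)
  rw [natCard_PP] at hP
  have hc : Nat.card (torus X) ≤ Fintype.card F + 1 := by
    obtain ⟨-, -, h | h⟩ := torus_facts hX <;> omega
  have : 4 * (3 * (Fintype.card F + 1)) ≤ Fintype.card F * ((Fintype.card F - 1) * (Fintype.card F + 1)) :=
    Nat.mul_le_mul h4 (Nat.mul_le_mul_right _ (by omega))
  omega

theorem kind_of_torus (p : ℕ) [Fact p.Prime] [CharP F p] (h4 : 4 ≤ Fintype.card F) (h : MaxIn G0 M)
    (g : M.comap toP) (hg1 : g ≠ 1) (hgp : orderOf g ≠ p)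
    (hchar : ∀ φ : M.comap toP ≃* M.comap toP, φ g ∈ Subgroup.zpowers g) : Kind p G0 M := by
  obtain ⟨X, hX⟩ := KleinPSL.pi_surjective (g : PG)
  have hXs : Semisimple X := semisimple_of_pi p X (by rw [hX]; exact fun e => hg1 (Subtype.ext e))
    (by rw [hX, Subgroup.orderOf_coe]; exact hgp)
  refine Or.inr (Or.inl ⟨X, hXs, h.eq_inf (fun m hm => ?_) (not_L_le_torusN h4 hXs)⟩)
  obtain ⟨φ, hφ⟩ := exists_aut toP Matrix.ProjectiveSpecialLinearGroup.toPGL_injective _ (normalizes hm)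
  obtain ⟨k, hk⟩ := hchar φ
  refine mem_torusN_of_conj hXs ?_
  rw [← toPGL_pi, hX, ← hφ g, ← hk]
  show toP ((g ^ k : M.comap toP) : PG) ∈ torus X
  rw [Subgroup.coe_zpow, map_zpow, ← hX, toPGL_pi]
  exact Subgroup.zpow_mem _ self_mem_torus _

theorem kind_of_fix (p : ℕ) [Fact p.Prime] [CharP F p] (h : MaxIn G0 M) (u : M.comap toP)
    (hu : orderOf u = p) (w : OnePoint F)
    (hw : ∀ x ∈ M.comap toP, x • DicksonField.emb F w = DicksonField.emb F w) : Kind p G0 M := by
  refine Or.inl ⟨w, h.eq_inf (fun m hm => ?_) (not_L_le_stabW w)⟩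
  obtain ⟨φ, hφ⟩ := exists_aut toP Matrix.ProjectiveSpecialLinearGroup.toPGL_injective _ (normalizes hm)
  obtain ⟨k, rfl⟩ := Matrix.ProjGenLinGroup.mk_surjective m
  rw [mk_mem_stabW]
  obtain ⟨Y, hY⟩ := KleinPSL.pi_surjective (φ u : PG)
  have hYw : Matrix.SpecialLinearGroup.toGL Y • w = w := by
    have := hw _ (φ u).2
    rwa [← hY, DicksonField.pi_smul_emb, DicksonField.emb_injective.eq_iff] at this
  have hmem : toP (u : PG) ∈ stabW (k⁻¹ • w) := by
    have e : toP (u : PG) = mk' (k⁻¹ * Matrix.SpecialLinearGroup.toGL Y * k) := by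
      rw [map_mul, map_mul, map_inv, ← toPGL_pi, hY, hφ]; group
    rw [e, mk_mem_stabW, mul_smul, mul_smul, smul_inv_smul, hYw]
  rw [← Subgroup.mem_comap, comap_stabW, mem_stabilizer_iff] at hmem
  have := DicksonField.emb_injective ((DicksonAction.twoPt (F := F) p).eq_of_fix
    (by rw [Subgroup.orderOf_coe]; exact hu) (hw u u.2) hmem)
  rw [inv_smul_eq_iff] at this
  exact this.symm

theorem kind_of_sub (p : ℕ) (h : MaxIn G0 M) {K : Type} [Field K] [Fintype K] (f : K →+* F)
    (γ : GL (Fin 2) F) {m : ℕ} (hm : Fintype.card K ^ m = Fintype.card F) (hm2 : 2 ≤ m)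
    (hle : M ≤ sub f γ) : Kind p G0 M := by
  obtain ⟨h1, h2⟩ := h.of_sub f γ hm hm2 hle
  exact Or.inr (Or.inr (Or.inr (Or.inr ⟨K, inferInstance, inferInstance, f, γ, m, h2, hm, h1⟩)))

theorem kind_of_transitive (p : ℕ) [Fact p.Prime] [CharP F p] (h : MaxIn G0 M)
    {x : OnePoint (AlgebraicClosure F)}
    (hx : DicksonModular.Transitive' ((DicksonAction.twoPt (F := F) p).subgroup (M.comap toP)) x) :
    Kind p G0 M := by
  obtain ⟨K, iK, fK, m, f, γ, hm, hlo, hhi⟩ := DicksonField.transitive_embedding p (M.comap toP) hx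
  have hm2 : 2 ≤ m := by
    by_contra hlt
    interval_cases m
    · have := Fintype.one_lt_card (α := F)
      simp at hm
      omega
    · rw [pow_one] at hm
      have hbij : Function.Bijective f :=
        (Fintype.bijective_iff_injective_and_card f).2 ⟨f.injective, hm⟩
      let e : K ≃+* F := RingEquiv.ofBijective f hbij
      refine h.not_le ?_
      rintro z ⟨x, rfl⟩
      obtain ⟨Y, rfl⟩ := KleinPSL.pi_surjective x
      set Y' := Y with hY'
      obtain ⟨X', hX'⟩ : ∃ X', toP (KleinPSL.pi F X') =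
          mk' γ * toP (KleinPSL.pi F Y) * (mk' γ)⁻¹ := by
        obtain ⟨u, hu⟩ := (mem_L_iff_conj (γ := mk' γ)).2 (toP_mem_L (KleinPSL.pi F Y))
        obtain ⟨X', rfl⟩ := KleinPSL.pi_surjective u
        exact ⟨X', hu⟩
      obtain ⟨_, ⟨w, hw, rfl⟩, hwe⟩ := hlo ⟨_, ⟨KleinPSL.pi K (Matrix.SpecialLinearGroup.map e.symm.toRingHom X'), rfl⟩, rfl⟩
      have hX : DicksonField.pglMap f (Matrix.ProjectiveSpecialLinearGroup.toPGL
          (KleinPSL.pi K (Matrix.SpecialLinearGroup.map e.symm.toRingHom X'))) = toP (KleinPSL.pi F X') := by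
        show mk' _ = mk' _
        refine congrArg mk' (Units.ext (Matrix.ext fun i j => ?_))
        show e (e.symm ((X' : Matrix (Fin 2) (Fin 2) F) i j)) = _
        rw [RingEquiv.apply_symm_apply]; rfl
      rw [hX, hX'] at hwe
      rw [MulAut.conj.eq_def] at hwe
      have : toP w = toP (KleinPSL.pi F Y) := by simpa using hwe
      rw [← this]
      exact hw
  refine kind_of_sub p h f γ hm hm2 fun mm hmm => ?_
  obtain ⟨g, hg⟩ := Matrix.ProjGenLinGroup.mk_surjective (mk' γ * mm * (mk' γ)⁻¹)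
  rw [mem_sub, ← hg]
  refine mk_mem_range_of_conj f g fun Y => ?_
  obtain ⟨_, ⟨w, hw, rfl⟩, hwe⟩ := hlo ⟨_, ⟨KleinPSL.pi K Y, rfl⟩, rfl⟩
  obtain ⟨w', hw', hww⟩ := normalizes hmm _ ⟨w, hw, rfl⟩
  refine hhi ⟨toP w', ⟨w', hw', rfl⟩, ?_⟩
  show MulAut.conj (mk' γ) (toP w') = _
  rw [hww, hg]
  have hwe' : DicksonField.pglMap f (Matrix.ProjGenLinGroup.mk (Matrix.SpecialLinearGroup.toGL Y)) =
      mk' γ * toP w * (mk' γ)⁻¹ := hwe.symm
  rw [hwe', MulAut.conj_apply]
  group

theorem exists_primeField (p : ℕ) [Fact p.Prime] [CharP F p] :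
    ∃ n : ℕ, 0 < n ∧ Fintype.card F = p ^ n ∧ Fintype.card (ZMod p) ^ n = Fintype.card F := by
  obtain ⟨n, -, hn⟩ := FiniteField.card F p
  exact ⟨n, n.pos, hn, by rw [ZMod.card, hn]⟩

theorem kind_of_four (p : ℕ) [Fact p.Prime] [CharP F p] (h4 : 4 ≤ Fintype.card F) (h : MaxIn G0 M)
    (hp2 : p ≠ 2) {x y : M.comap toP} (hxy : CharFour x y)
    (hiso : Nonempty (M.comap toP ≃* DihedralGroup 2) ∨
      Nonempty (M.comap toP ≃* alternatingGroup (Fin 4)) ∨
      Nonempty (M.comap toP ≃* Equiv.Perm (Fin 4))) : Kind p G0 M := by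
  obtain ⟨hx, hy, hne, hc, hφ⟩ := hxy
  have h2 : (2 : F) ≠ 0 := Ring.two_ne_zero (by rwa [ringChar.eq F p])
  obtain ⟨γ, a, b, fr⟩ := exists_frame h2 (x := (x : PG)) (y := (y : PG))
    (by rw [Subgroup.orderOf_coe, hx]) (by rw [Subgroup.orderOf_coe, hy])
    (fun e => hne (Subtype.ext e)) (hc.map (M.comap toP).subtype)
  obtain ⟨hx2, hy2, hcomm, -, -, -⟩ := fr.basic
  have hle : M ≤ nFour (toP (x : PG)) (toP (y : PG)) := by
    intro m hm
    obtain ⟨φ, hφ'⟩ := exists_aut toP Matrix.ProjectiveSpecialLinearGroup.toPGL_injective _ (normalizes hm)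
    obtain ⟨h1, h2'⟩ := hφ φ
    have hxx : x * x = 1 := by
      have := pow_orderOf_eq_one x
      rwa [hx, pow_two] at this
    have hyy : y * y = 1 := by
      have := pow_orderOf_eq_one y
      rwa [hy, pow_two] at this
    have hne' : φ x ≠ φ y := fun e => hne (φ.injective e)
    have h3 : φ (x * y) ∈ ({x, y, x * y} : Set (M.comap toP)) := by
      rw [map_mul]
      rcases h1 with e1 | e1 | e1 <;> rcases h2' with e2 | e2 | e2 <;> rw [e1, e2] at hne' ⊢
      · exact absurd rfl hne'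
      · exact Or.inr (Or.inr rfl)
      · exact Or.inr (Or.inl (by rw [← mul_assoc, hxx, one_mul]))
      · exact Or.inr (Or.inr hc.eq.symm)
      · exact absurd rfl hne'
      · exact Or.inl (by rw [hc.eq, ← mul_assoc, hyy, one_mul])
      · exact Or.inr (Or.inl (by rw [hc.eq, mul_assoc, hxx, mul_one]))
      · exact Or.inl (by rw [mul_assoc, hyy, mul_one])
      · exact absurd rfl hne'
    refine mem_nFour_of_maps ?_
    have key : ∀ z : M.comap toP, φ z ∈ ({x, y, x * y} : Set (M.comap toP)) →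
        m * toP (z : PG) * m⁻¹ ∈ ({toP (x : PG), toP (y : PG), toP (x : PG) * toP (y : PG)} : Set PP) := by
      intro z hz
      rw [← hφ' z]
      rcases hz with e | e | e <;> rw [e]
      · exact Or.inl rfl
      · exact Or.inr (Or.inl rfl)
      · exact Or.inr (Or.inr (by rw [Subgroup.coe_mul, map_mul]; rfl))
    rintro z (rfl | rfl | rfl)
    · exact key x h1
    · exact key y h2'
    · have := key _ h3
      rwa [Subgroup.coe_mul, map_mul] at this
  obtain ⟨n, hn0, hn, hK⟩ := exists_primeField (F := F) p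
  rcases eq_or_ne n 1 with rfl | hn1
  · have hnL : ¬ L F ≤ nFour (toP (x : PG)) (toP (y : PG)) := by
      refine not_L_le_of_card (lt_of_le_of_lt fr.natCard_le ?_)
      have hq : 5 ≤ Fintype.card F := by
        rw [pow_one] at hn
        have := (Fact.out : p.Prime)
        rcases Nat.lt_or_ge (Fintype.card F) 5 with h5 | h5
        · have : Fintype.card F = 4 := by omega
          rw [hn] at this
          subst this
          norm_num at *
        · exact h5
      have hP := natCard_PP_le (F := F)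
      rw [natCard_PP] at hP
      have : 5 * (4 * 6) ≤ Fintype.card F * ((Fintype.card F - 1) * (Fintype.card F + 1)) :=
        Nat.mul_le_mul hq (Nat.mul_le_mul (by omega) (by omega))
      omega
    refine Or.inr (Or.inr (Or.inl ⟨?_, hp2, _, _, γ, a, b, fr, toP_mem_L _, toP_mem_L _,
      h.eq_inf hle hnL, hiso⟩))
    rw [hn, pow_one]; exact Fact.out
  · exact kind_of_sub p h (ZMod.castHom dvd_rfl F) γ hK (by omega) (hle.trans (fr.le_sub _))

theorem golden_mem {K : Type*} [Field K] (f : K →+* F) (h2 : (2 : F) ≠ 0) {r : K}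
    (hr : r * r = 5) (t : F) (ht : t ^ 4 - 3 * t ^ 2 + 1 = 0) : t ∈ f.fieldRange := by
  have hr' : f r * f r = 5 := by rw [← map_mul, hr, map_ofNat]
  have S1 : (1 : F) ∈ f.fieldRange := one_mem _
  have S2 : (2 : F)⁻¹ ∈ f.fieldRange := inv_mem (by rw [← one_add_one_eq_two]; exact add_mem S1 S1)
  have Sr : f r ∈ f.fieldRange := ⟨r, rfl⟩
  have key : ∀ u : F, u * u = 5 → u ∈ f.fieldRange := by
    intro u hu
    rcases mul_self_eq_mul_self_iff.1 (hu.trans hr'.symm) with e | e <;> rw [e]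
    · exact Sr
    · exact neg_mem Sr
  have hprod : (t * t - t - 1) * (t * t + t - 1) = 0 := by linear_combination ht
  rcases mul_eq_zero.1 hprod with h | h
  · have := mul_mem S2 (add_mem (key (2 * t - 1) (by linear_combination 4 * h)) S1)
    rwa [sub_add_cancel, inv_mul_cancel_left₀ h2] at this
  · have := mul_mem S2 (sub_mem (key (2 * t + 1) (by linear_combination 4 * h)) S1)
    rwa [add_sub_cancel_right, inv_mul_cancel_left₀ h2] at this

theorem four_pow_mod (i : ℕ) : 4 ^ i % 5 = 1 ∨ 4 ^ i % 5 = 4 := by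
  induction i with
  | zero => left; rfl
  | succ i ih => rw [pow_succ, Nat.mul_mod]; rcases ih with e | e <;> rw [e] <;> norm_num

theorem isSquare_five (p : ℕ) [Fact p.Prime] (h : p % 5 = 1 ∨ p % 5 = 4) : IsSquare (5 : ZMod p) := by
  haveI : Fact (Nat.Prime 5) := ⟨by norm_num⟩
  have hp2 : p ≠ 2 := by rintro rfl; norm_num at h
  have h5 : IsSquare ((p : ℕ) : ZMod 5) := by
    rw [← ZMod.natCast_mod p 5]
    rcases h with h | h <;> rw [h]
    · exact ⟨1, by norm_num⟩
    · exact ⟨2, by norm_num⟩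
  have := (ZMod.exists_sq_eq_prime_iff_of_mod_four_eq_one (p := 5) (q := p) (by norm_num) hp2).1 h5
  simpa using this

theorem alt5_conj_inv : ∀ g : alternatingGroup (Fin 5), g ^ 5 = 1 →
    ∃ y : alternatingGroup (Fin 5), y * g * y⁻¹ = g⁻¹ := by decide +kernel

/-- `M` lies in `L` when its trace on `L` is `A₅` -/
theorem le_L_of_alt5 (p : ℕ) [Fact p.Prime] [CharP F p] (hp2 : p ≠ 2) (hp5 : p ≠ 5)
    (e : M.comap toP ≃* alternatingGroup (Fin 5)) : M ≤ L F := by
  intro t ht
  by_contra htL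
  obtain ⟨gA, hg5, hg1, hcent, hauto⟩ := alt5_aut_trivial
  set H := M.comap toP with hH
  set g : H := e.symm gA with hgdef
  haveI : Fact (Nat.Prime 5) := ⟨by norm_num⟩
  have hog : orderOf g = 5 := by rw [hgdef, MulEquiv.orderOf_eq, orderOf_eq_prime hg5 hg1]
  obtain ⟨X, hX⟩ := KleinPSL.pi_surjective (g : PG)
  have hXs : Semisimple X := semisimple_of_pi p X
    (by rw [hX]; intro e'; have : g = 1 := Subtype.ext e'; rw [this, orderOf_one] at hog; norm_num at hog)
    (by rw [hX, Subgroup.orderOf_coe, hog]; exact fun e' => hp5 e'.symm)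
  -- an element outside `L` normalising `⟨g⟩`
  have hH60 : Nat.card H = 60 := by
    rw [Nat.card_congr e.toEquiv, nat_card_alternatingGroup, Nat.card_fin]; rfl
  obtain ⟨φ, hφ⟩ := exists_aut toP Matrix.ProjectiveSpecialLinearGroup.toPGL_injective _ (normalizes ht)
  have h25 : ¬ 5 ^ 2 ∣ Nat.card H := by rw [hH60]; norm_num
  obtain ⟨P, hP⟩ := DicksonShapes.exists_sylow h25 (Subgroup.zpowers g) (by rw [Nat.card_zpowers, hog])
  obtain ⟨R, hR⟩ := DicksonShapes.exists_sylow h25 (Subgroup.zpowers (φ g))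
    (by rw [Nat.card_zpowers, MulEquiv.orderOf_eq, hog])
  obtain ⟨c, hc⟩ := MulAction.exists_smul_eq H R P
  have hcg : c * φ g * c⁻¹ ∈ Subgroup.zpowers g := by
    rw [← hP, ← hc, Sylow.coe_subgroup_smul, hR]
    exact ⟨φ g, Subgroup.mem_zpowers _, rfl⟩
  set m := toP (c : PG) * t with hmdef
  have hcM : toP (c : PG) ∈ M := c.2
  have hmM : m ∈ M := mul_mem hcM ht
  have hmL : m ∉ L F := fun h => htL ((Subgroup.mul_mem_cancel_left _ (toP_mem_L (c : PG))).1 h)
  obtain ⟨k, hk⟩ := hcg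
  have hconj : m * toP (g : PG) * m⁻¹ = toP ((g ^ k : H) : PG) := by
    rw [show g ^ k = c * φ g * c⁻¹ from hk, Subgroup.coe_mul, Subgroup.coe_mul, map_mul, map_mul,
      Subgroup.coe_inv, map_inv, hφ, hmdef]
    group
  have hmT : m ∈ torusN X := mem_torusN_of_conj hXs (by
    rw [← toPGL_pi, hX, hconj, Subgroup.coe_zpow, map_zpow, ← hX, toPGL_pi]
    exact Subgroup.zpow_mem _ self_mem_torus _)
  obtain ⟨z, hzM, hzL, hzg⟩ : ∃ z, z ∈ M ∧ z ∉ L F ∧ z * toP (g : PG) * z⁻¹ = toP (g : PG) := by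
    obtain ⟨k', hk', hmk⟩ := hmT
    rcases nx_cases hk' with h1 | h1
    · refine ⟨m, hmM, hmL, ?_⟩
      rw [← hX, toPGL_pi, ← hmk, mul_inv_eq_iff_eq_mul, ← map_mul, ← map_mul]
      exact congrArg mk' (Subgroup.mem_centralizer_singleton_iff.1 h1)
    · obtain ⟨yA, hyA⟩ := alt5_conj_inv gA hg5
      refine ⟨m * toP ((e.symm yA : H) : PG), mul_mem hmM (e.symm yA).2,
        fun h => hmL ((Subgroup.mul_mem_cancel_right _ (toP_mem_L _)).1 h), ?_⟩
      have hy' : (e.symm yA) * g * (e.symm yA)⁻¹ = g⁻¹ := by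
        rw [hgdef, ← map_inv, ← map_mul, ← map_mul, hyA, map_inv]
      have hy'' : toP ((e.symm yA : H) : PG) * toP (g : PG) * (toP ((e.symm yA : H) : PG))⁻¹ = (toP (g : PG))⁻¹ := by
        rw [← map_inv, ← map_mul, ← map_mul, ← Subgroup.coe_inv, ← Subgroup.coe_mul, ← Subgroup.coe_mul, hy',
          Subgroup.coe_inv, map_inv]
      have hinv : m * mk' (Matrix.SpecialLinearGroup.toGL X) * m⁻¹ = (mk' (Matrix.SpecialLinearGroup.toGL X))⁻¹ := by
        rw [← hmk]
        exact inverts hXs h1 (mem_cen.2 rfl)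
      rw [← toPGL_pi, hX] at hinv
      calc _ = m * (toP ((e.symm yA : H) : PG) * toP (g : PG) * (toP ((e.symm yA : H) : PG))⁻¹) * m⁻¹ := by group
        _ = (m * toP (g : PG) * m⁻¹)⁻¹ := by rw [hy'']; group
        _ = _ := by rw [hinv, inv_inv]
  -- make it an involution
  have hz2L : z * z ∈ L F := by
    have hidx : (L F).index ∣ 2 := by
      have h1 := (L F).index_mul_card
      rw [natCard_L, natCard_PP, ← DicksonCor.gcd_mul_natCard] at h1
      rw [Nat.eq_of_mul_eq_mul_right Nat.card_pos h1]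
      exact Nat.gcd_dvd_left _ _
    rcases (Nat.dvd_prime Nat.prime_two).1 hidx with h1 | h1
    · exact absurd (Subgroup.index_eq_one.1 h1 ▸ Subgroup.mem_top z) hzL
    · exact (Subgroup.mul_mem_iff_of_index_two h1).2 Iff.rfl
  obtain ⟨w, hw⟩ := hz2L
  let wH : H := ⟨w, by show toP w ∈ M; rw [hw]; exact mul_mem hzM hzM⟩
  have hwg : wH * g = g * wH := Subtype.ext (Matrix.ProjectiveSpecialLinearGroup.toPGL_injective (by
    show toP (w * (g : PG)) = toP ((g : PG) * w)
    rw [map_mul, map_mul, hw]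
    calc z * z * toP (g : PG) = z * (z * toP (g : PG) * z⁻¹) * z := by group
      _ = (z * toP (g : PG) * z⁻¹) * z * z := by rw [hzg]; nth_rw 2 [← hzg]; group
      _ = _ := by rw [hzg, mul_assoc]))
  have hw5 : wH ^ 5 = 1 := by
    obtain ⟨i, hi⟩ := hcent (e wH) (by
      have := congrArg e hwg
      rwa [map_mul, map_mul, hgdef, MulEquiv.apply_symm_apply] at this)
    apply e.injective
    rw [map_pow, map_one, ← hi]
    show (gA ^ i) ^ 5 = 1
    rw [← zpow_natCast, ← _root_.zpow_mul, mul_comm, _root_.zpow_mul, zpow_natCast, hg5, _root_.one_zpow]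
  set v := z ^ 5 with hv
  have hvv : v * v = 1 := by
    have h0 := congrArg (fun x : H => toP (x : PG)) hw5
    simp only [SubmonoidClass.coe_pow, map_pow, Subgroup.coe_one, map_one] at h0
    rw [hv, ← pow_add, show 5 + 5 = 2 * 5 from rfl, pow_mul, pow_two, ← hw]
    exact h0
  have hvL : v ∉ L F := fun h => hzL (by
    have h4 : z ^ 4 ∈ L F := by
      rw [show z ^ 4 = (z * z) * (z * z) by rw [← pow_two, ← pow_two, ← pow_mul], ← hw]
      exact mul_mem (toP_mem_L _) (toP_mem_L _)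
    have : z = (z ^ 4)⁻¹ * v := by rw [hv, show z ^ 5 = z ^ 4 * z from pow_succ z 4]; group
    rw [this]; exact mul_mem (inv_mem h4) h)
  obtain ⟨ψ, hψ⟩ := exists_aut toP Matrix.ProjectiveSpecialLinearGroup.toPGL_injective _
    (normalizes (Subgroup.pow_mem _ hzM 5) : ∀ x ∈ (M.comap toP).map toP, v * x * v⁻¹ ∈ (M.comap toP).map toP)
  have hψg : ψ g = g := by
    refine Subtype.ext (Matrix.ProjectiveSpecialLinearGroup.toPGL_injective ?_)
    rw [hψ]
    have hcm : Commute z (toP (g : PG)) := mul_inv_eq_iff_eq_mul.1 hzg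
    rw [hv, (hcm.pow_left 5).eq, mul_inv_cancel_right]
  have hψψ : ∀ x, ψ (ψ x) = x := fun x => Subtype.ext (Matrix.ProjectiveSpecialLinearGroup.toPGL_injective (by
    rw [hψ, hψ]
    calc _ = (v * v) * toP (x : PG) * (v * v)⁻¹ := by group
      _ = _ := by rw [hvv, one_mul, inv_one, mul_one]))
  have hid := hauto (MulAut.congr e ψ) (by
      show e (ψ (e.symm gA)) = gA
      rw [← hgdef, hψg, hgdef, MulEquiv.apply_symm_apply])
    (fun x => by
      show e (ψ (e.symm (e (ψ (e.symm x))))) = x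
      rw [MulEquiv.symm_apply_apply, hψψ, MulEquiv.apply_symm_apply])
  have hψ1 : ∀ x, ψ x = x := fun x => by
    have := DFunLike.congr_fun hid (e x)
    change e (ψ (e.symm (e x))) = e x at this
    rw [MulEquiv.symm_apply_apply] at this
    exact e.injective this
  obtain ⟨xA, yA, hx, hy, hx1, hy1, hne, hc⟩ := alt5_four
  have ho : ∀ z : alternatingGroup (Fin 5), z * z = 1 → z ≠ 1 → orderOf ((e.symm z : H) : PG) = 2 :=
    fun z hz hz1 => by
      rw [Subgroup.orderOf_coe, MulEquiv.orderOf_eq]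
      exact orderOf_eq_prime (hp := ⟨Nat.prime_two⟩) (by rw [pow_two, hz]) hz1
  have h2 : (2 : F) ≠ 0 := Ring.two_ne_zero (by rwa [ringChar.eq F p])
  obtain ⟨γ, a, b, fr⟩ := exists_frame h2 (ho xA hx hx1) (ho yA hy hy1)
    (fun h => hne (e.symm.injective (Subtype.ext h)))
    (by show _ * _ = _ * _; rw [← Subgroup.coe_mul, ← Subgroup.coe_mul, ← map_mul, ← map_mul, hc])
  have hfix : ∀ x : H, v * toP (x : PG) * v⁻¹ = toP (x : PG) := fun x => by rw [← hψ, hψ1]
  refine hvL ?_
  rcases fr.fix_both' (hfix _) (hfix _) with e' | e' | e' | e'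
  · rw [e']; exact one_mem _
  · rw [e']; exact toP_mem_L _
  · rw [e']; exact toP_mem_L _
  · rw [e', ← map_mul]; exact toP_mem_L _

theorem kind_of_five (p : ℕ) [Fact p.Prime] [CharP F p] (h : MaxIn G0 M) (hp2 : p ≠ 2) (hp5 : p ≠ 5)
    (e : M.comap toP ≃* alternatingGroup (Fin 5)) : Kind p G0 M := by
  have hML := le_L_of_alt5 p hp2 hp5 e
  have h2 : (2 : F) ≠ 0 := Ring.two_ne_zero (by rwa [ringChar.eq F p])
  obtain ⟨γ, hγ⟩ := alt5_le_sub h2 (M.comap toP) e
  have hle : ∀ (K : Type) [Field K] [Fintype K] (f : K →+* F), IsSquare (5 : K) → M ≤ sub f γ := by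
    intro K _ _ f hK
    obtain ⟨r, hr⟩ := hK
    refine le_trans ?_ (hγ K f (golden_mem f h2 hr.symm))
    rw [map_comap_eq]
    exact le_inf le_rfl hML
  obtain ⟨n, hn0, hn, hK⟩ := exists_primeField (F := F) p
  have hp : p.Prime := Fact.out
  haveI : Fact (Nat.Prime 5) := ⟨by norm_num⟩
  -- five divides `q² - 1`
  have h5 : Fintype.card F % 5 = 1 ∨ Fintype.card F % 5 = 4 := by
    obtain ⟨gA, hgA⟩ := exists_prime_orderOf_dvd_card' (G := alternatingGroup (Fin 5)) 5 (by
      rw [nat_card_alternatingGroup, Nat.card_fin]; decide)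
    have ho : orderOf ((e.symm gA : M.comap toP) : PG) = 5 := by
      rw [Subgroup.orderOf_coe, MulEquiv.orderOf_eq, hgA]
    have hd := DicksonList.order_dvd p ((e.symm gA : M.comap toP) : PG) (by
      rw [ho]; intro hd
      exact hp5 ((Nat.prime_dvd_prime_iff_eq hp (by norm_num)).1 hd))
    rw [ho] at hd
    have hq := Fintype.one_lt_card (α := F)
    have hg2 : Nat.gcd 2 (Fintype.card F - 1) ∣ Fintype.card F - 1 := Nat.gcd_dvd_right _ _
    have hodd : Fintype.card F % 2 = 1 := by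
      rw [hn, Nat.pow_mod, hp.eq_two_or_odd.resolve_left hp2, one_pow, Nat.one_mod]
    have hg : Nat.gcd 2 (Fintype.card F - 1) = 2 := Nat.gcd_eq_left (Nat.dvd_of_mod_eq_zero (by omega))
    rw [hg] at hd
    omega
  rcases Nat.even_or_odd n with hev | hod
  · obtain ⟨j, hj⟩ := hev
    obtain ⟨K', iK, fK, f', hK', hsub⟩ := exists_intermediate (ZMod.castHom dvd_rfl F) (a := 2) (b := j)
      (by rw [show 2 * j = n by omega, hK]) two_ne_zero (by omega)
    rcases eq_or_ne j 1 with rfl | hj1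
    · by_cases hsq : IsSquare (5 : ZMod p)
      · exact kind_of_sub p h (ZMod.castHom dvd_rfl F) γ hK (by omega) (hle _ _ hsq)
      · refine Or.inr (Or.inr (Or.inr (Or.inl ⟨hML, hp2, ⟨e⟩, Or.inr ⟨by rw [hn, hj], ?_⟩⟩)))
        have h1 : ¬ (p % 5 = 1 ∨ p % 5 = 4) := fun h => hsq (isSquare_five p h)
        have h0 : p % 5 ≠ 0 := fun h0 =>
          hp5 ((Nat.prime_dvd_prime_iff_eq (by norm_num) hp).1 (Nat.dvd_of_mod_eq_zero h0)).symm
        have := hp.eq_two_or_odd.resolve_left hp2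
        omega
    · refine kind_of_sub p h f' γ (m := j) ?_ (by omega) (hle _ f' ?_)
      · rw [hK', ← pow_mul, show 2 * j = n by omega, hK]
      · obtain ⟨i, hi⟩ := PslMap.nonempty_ringHom (K := ZMod p) (F := K') 2 hK'.symm |>.elim fun i => (⟨i, rfl⟩ : ∃ i : ZMod p →+* K', i = i)
        have := isSquare_map_of_even i hK'.symm even_two (5 : ZMod p)
        rwa [map_ofNat] at this
  · rcases eq_or_ne n 1 with rfl | hn1
    · refine Or.inr (Or.inr (Or.inr (Or.inl ⟨hML, hp2, ⟨e⟩, Or.inl ⟨by rw [hn, pow_one], ?_⟩⟩)))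
      rw [hn, pow_one] at h5
      have := hp.eq_two_or_odd.resolve_left hp2
      omega
    · refine kind_of_sub p h (ZMod.castHom dvd_rfl F) γ hK (by omega) (hle _ (ZMod.castHom dvd_rfl F) ?_)
      refine isSquare_five p ?_
      obtain ⟨i, hi⟩ := hod
      have hsq : p ^ (2 * i) % 5 = 1 ∨ p ^ (2 * i) % 5 = 4 := by
        rw [pow_mul, Nat.pow_mod, pow_two, Nat.mul_mod]
        have : p % 5 < 5 := Nat.mod_lt _ (by norm_num)
        have h0 : p % 5 ≠ 0 := fun h0 =>
          hp5 ((Nat.prime_dvd_prime_iff_eq (by norm_num) hp).1 (Nat.dvd_of_mod_eq_zero h0)).symm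
        have h4i := four_pow_mod i
        interval_cases p % 5 <;> simp_all
      rw [hn, hi, pow_succ, Nat.mul_mod] at h5
      have : p % 5 < 5 := Nat.mod_lt _ (by norm_num)
      rcases hsq with e' | e' <;> rw [e'] at h5 <;> omega

/-- the kinds of maximal subgroups -/
theorem kind (p : ℕ) [Fact p.Prime] [CharP F p] (h4 : 4 ≤ Fintype.card F) (h : MaxIn G0 M) :
    Kind p G0 M := by
  rcases shapes p (M.comap toP) (comap_ne_bot p h4 h) with ⟨g, hg1, hgp, hc⟩ | ⟨u, hu, w, hw⟩ |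
    ⟨hp2, ⟨x, y, hxy⟩, hiso⟩ | ⟨hp2, hp5, ⟨e⟩⟩ | ⟨x, hx⟩
  · exact kind_of_torus p h4 h g hg1 hgp hc
  · exact kind_of_fix p h u hu w hw
  · exact kind_of_four p h4 h hp2 hxy hiso
  · exact kind_of_five p h hp2 hp5 e
  · exact kind_of_transitive p h hx

end Cfsg.Agent.Forms.DicksonPGL
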