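import Mathlib

/-!
# Excluding small maximal subgroups by Sylow's theorem
-/

set_option autoImplicit false
set_option linter.unusedSectionVars false

namespace Cfsg.Agent.Forms.DicksonPGL

theorem no_max {G : Type*} [Group G] [Finite G] [IsSimpleGroup G] {S0 : Type*} [Group S0] [Finite S0]
    (M : Subgroup G) (hM : IsCoatom M) (f : S0 →* G) (hf : Function.Injective f)
    (r k : ℕ) (hr : r.Prime) (hk : k ≠ 0) (hdiv : ¬ r ^ (k + 1) ∣ Nat.card G)
    (Q : Subgroup G) (hQM : Q ≤ M) (hQ : Nat.card Q = r ^ k) (hQn : ∀ m ∈ M, ∀ q ∈ Q, m * q * m⁻¹ ∈ Q)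
    (V T : Subgroup S0) (hV : Nat.card V = r ^ k) (hT : Nat.card M ≤ Nat.card T)
    (hTV : ∀ t ∈ T, ∀ v ∈ V, t * v * t⁻¹ ∈ V)
    (hlt : Nat.card M < Nat.card S0) (hS : Nat.card S0 < Nat.card G) : False := by
  classical
  haveI : Fact r.Prime := ⟨hr⟩
  have hfac : (Nat.card G).factorization r = k := by
    have h1 : r ^ k ∣ Nat.card G := hQ ▸ Q.card_subgroup_dvd_card
    rw [hr.pow_dvd_iff_le_factorization Nat.card_pos.ne'] at h1 hdiv
    omega
  have hV' : Nat.card (V.map f) = r ^ k := by rw [Subgroup.card_map_of_injective hf, hV]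
  let P : Sylow r G := Sylow.ofCard Q (by rw [hQ, hfac])
  let R : Sylow r G := Sylow.ofCard (V.map f) (by rw [hV', hfac])
  obtain ⟨h, hh⟩ := MulAction.exists_smul_eq G R P
  let c : G ≃* G := MulAut.conj h
  have hc : (V.map f).map c.toMonoidHom = Q := by
    have e := congrArg (fun S : Sylow r G => (S : Subgroup G)) hh
    simp only [P, R, Sylow.coe_ofCard, Sylow.coe_subgroup_smul] at e
    exact e
  -- the normaliser of `Q` is `M`
  have hN : Subgroup.normalizer (Q : Set G) = M := by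
    have hle : M ≤ Subgroup.normalizer (Q : Set G) := fun m hm => by
      rw [Subgroup.mem_normalizer_iff]
      refine fun q => ⟨hQn m hm q, fun hq => ?_⟩
      have := hQn m⁻¹ (inv_mem hm) _ hq
      rwa [inv_inv, mul_assoc m q, inv_mul_cancel_left, inv_mul_cancel_right] at this
    rcases hM.le_iff.1 hle with e | e
    · exfalso
      have hn : Q.Normal := Subgroup.normalizer_eq_top_iff.1 e
      rcases hn.eq_bot_or_eq_top with e' | e'
      · rw [e', Subgroup.card_bot] at hQ
        exact absurd hQ.symm (Nat.one_lt_pow hk hr.one_lt).ne'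
      · exact hM.1 (top_le_iff.1 (e' ▸ hQM))
    · exact e
  -- `T` is carried into `M`
  have hTM : ((T.map f).map c.toMonoidHom) ≤ M := by
    rw [← hN]
    rintro _ ⟨_, ⟨t, ht, rfl⟩, rfl⟩
    have key : ∀ u ∈ T, ∀ q ∈ Q, c (f u) * q * (c (f u))⁻¹ ∈ Q := by
      intro u hu q hq
      rw [← hc] at hq ⊢
      obtain ⟨_, ⟨v, hv, rfl⟩, rfl⟩ := hq
      refine ⟨_, ⟨_, hTV u hu v hv, rfl⟩, ?_⟩
      simp
    rw [Subgroup.mem_normalizer_iff]
    refine fun q => ⟨key t ht q, fun hq => ?_⟩
    have := key t⁻¹ (inv_mem ht) _ hq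
    simpa [mul_assoc] using this
  have hcard : Nat.card ((T.map f).map c.toMonoidHom) = Nat.card T := by
    rw [Subgroup.card_map_of_injective c.injective, Subgroup.card_map_of_injective hf]
  have heq := Subgroup.eq_of_le_of_card_ge hTM (hT.trans hcard.ge)
  set R' : Subgroup G := f.range.map c.toMonoidHom with hR'
  have hR : Nat.card R' = Nat.card S0 := by
    rw [hR', Subgroup.card_map_of_injective c.injective]
    exact (Nat.card_congr (MonoidHom.ofInjective hf).toEquiv).symm
  have hMR : M ≤ R' := heq ▸ Subgroup.map_mono (Subgroup.map_le_range _ _)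
  rcases hM.le_iff.1 hMR with e | e
  · rw [e, Subgroup.card_top] at hR
    omega
  · rw [e] at hR
    omega

theorem card_subtype_eq {G : Type*} [Group G] [Fintype G] (H : Subgroup G) (P : G → Prop)
    [DecidablePred P] (h : ∀ g, g ∈ H ↔ P g) {n : ℕ} (hn : Fintype.card {g : G // P g} = n) :
    Nat.card H = n := by
  rw [Nat.card_congr (Equiv.subtypeEquivRight h), Nat.card_eq_fintype_card, hn]

/-- a subgroup from a decidable predicate on a finite group -/
def subOf {G : Type*} [Group G] [Finite G] (P : G → Prop) (h1 : P 1) (hm : ∀ a b, P a → P b → P (a * b)) :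
    Subgroup G where
  carrier := {g | P g}
  one_mem' := h1
  mul_mem' := hm _ _
  inv_mem' := fun {a} ha => by
    obtain ⟨n, hn⟩ : a⁻¹ ∈ Submonoid.powers a := by
      rw [mem_powers_iff_mem_zpowers]
      exact Subgroup.inv_mem _ (Subgroup.mem_zpowers a)
    have : ∀ m : ℕ, P (a ^ m) := fun m => by
      induction m with
      | zero => simpa using h1
      | succ m ih => rw [pow_succ]; exact hm _ _ ih ha
    exact hn ▸ this n

theorem mem_subOf {G : Type*} [Group G] [Finite G] {P : G → Prop} {h1 : P 1}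
    {hm : ∀ a b, P a → P b → P (a * b)} {g : G} : g ∈ subOf P h1 hm ↔ P g := Iff.rfl

set_option maxRecDepth 4000 in
/-- a subgroup of order 3 with normaliser of order 6 -/
theorem sym4_three : ∃ V T : Subgroup (Equiv.Perm (Fin 4)), Nat.card V = 3 ∧ Nat.card T = 6 ∧
    ∀ t ∈ T, ∀ v ∈ V, t * v * t⁻¹ ∈ V := by
  refine ⟨subOf (fun z => z ^ 3 = 1 ∧ z 3 = 3) (by decide +kernel) (by decide +kernel),
    subOf (fun z => z 3 = 3) (by decide +kernel) (by decide +kernel),
    card_subtype_eq _ _ (fun _ => mem_subOf) (by decide +kernel),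
    card_subtype_eq _ _ (fun _ => mem_subOf) (by decide +kernel), ?_⟩
  simp only [mem_subOf]
  decide +kernel

set_option maxRecDepth 4000 in
/-- a subgroup of order 8 -/
theorem sym4_eight : ∃ V T : Subgroup (Equiv.Perm (Fin 4)), Nat.card V = 8 ∧ Nat.card T = 8 ∧
    ∀ t ∈ T, ∀ v ∈ V, t * v * t⁻¹ ∈ V := by
  refine ⟨subOf (fun z => z * (Equiv.swap 0 1 * Equiv.swap 2 3) = (Equiv.swap 0 1 * Equiv.swap 2 3) * z)
      (by decide +kernel) (by decide +kernel),
    subOf (fun z => z * (Equiv.swap 0 1 * Equiv.swap 2 3) = (Equiv.swap 0 1 * Equiv.swap 2 3) * z)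
      (by decide +kernel) (by decide +kernel),
    card_subtype_eq _ _ (fun _ => mem_subOf) (by decide +kernel),
    card_subtype_eq _ _ (fun _ => mem_subOf) (by decide +kernel), ?_⟩
  simp only [mem_subOf]
  decide +kernel

theorem alt5_five_elt : ∃ g : alternatingGroup (Fin 5), g ^ 5 = 1 ∧ g ≠ 1 := by decide +kernel

set_option synthInstance.maxSize 4000 in
set_option synthInstance.maxHeartbeats 100000 in
theorem alt5_five_data : ∃ g : alternatingGroup (Fin 5),
    (∀ a b, (a * g = g * a ∨ a * g = g⁻¹ * a) → (b * g = g * b ∨ b * g = g⁻¹ * b) →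
      (a * b * g = g * (a * b) ∨ a * b * g = g⁻¹ * (a * b))) ∧
    Fintype.card {z // z * g = g * z} = 5 ∧
    Fintype.card {z // z * g = g * z ∨ z * g = g⁻¹ * z} = 10 := by
  decide +kernel

/-- a subgroup of order 5 with normaliser of order 10 -/
theorem alt5_five : ∃ V T : Subgroup (alternatingGroup (Fin 5)), Nat.card V = 5 ∧ Nat.card T = 10 ∧
    ∀ t ∈ T, ∀ v ∈ V, t * v * t⁻¹ ∈ V := by
  obtain ⟨g, hcl, h5, h10⟩ := alt5_five_data
  let T := subOf (fun z => z * g = g * z ∨ z * g = g⁻¹ * z) (Or.inl (by rw [one_mul, mul_one])) hcl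
  refine ⟨subOf (fun z => z * g = g * z) (by rw [one_mul, mul_one])
      (fun a b ha hb => by rw [mul_assoc, hb, ← mul_assoc, ha, mul_assoc]), T,
    card_subtype_eq _ _ (fun _ => mem_subOf) h5, card_subtype_eq _ _ (fun _ => mem_subOf) h10,
    fun t ht v hv => ?_⟩
  have hv' : Commute v g := hv
  rcases mem_subOf.1 ht with e | e
  · exact ((show Commute t g from e).mul_left hv').mul_left (show Commute t g from e).inv_left
  · show Commute (t * v * t⁻¹) g
    have h1 : t⁻¹ * g⁻¹ * t = g := by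
      rw [mul_assoc, ← e, ← mul_assoc, inv_mul_cancel, one_mul]
    have h2 : t * g * t⁻¹ = g⁻¹ := by rw [e, mul_inv_cancel_right]
    have := hv'.map (MulAut.conj t).toMonoidHom
    simp only [MulEquiv.coe_toMonoidHom, MulAut.conj_apply, h2] at this
    exact inv_inv g ▸ this.inv_right

set_option synthInstance.maxSize 4000 in
set_option synthInstance.maxHeartbeats 100000 in
set_option maxRecDepth 4000 in
/-- a subgroup of order 4 with normaliser of order 12 -/
theorem alt5_four_norm : ∃ V T : Subgroup (alternatingGroup (Fin 5)), Nat.card V = 4 ∧ Nat.card T = 12 ∧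
    V ≤ T ∧ ∀ t ∈ T, ∀ v ∈ V, t * v * t⁻¹ ∈ V := by
  refine ⟨subOf (fun z => z * z = 1 ∧ (z : Equiv.Perm (Fin 5)) 4 = 4) (by decide +kernel) (by decide +kernel),
    subOf (fun z => (z : Equiv.Perm (Fin 5)) 4 = 4) (by decide +kernel) (by decide +kernel),
    card_subtype_eq _ _ (fun _ => mem_subOf) (by decide +kernel),
    card_subtype_eq _ _ (fun _ => mem_subOf) (by decide +kernel), fun z hz => hz.2, ?_⟩
  simp only [mem_subOf]
  decide +kernel

theorem alt4_four_data : (∀ a b : alternatingGroup (Fin 4), a * a = 1 → b * b = 1 → a * b * (a * b) = 1) ∧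
    Fintype.card {z : alternatingGroup (Fin 4) // z * z = 1} = 4 := by decide +kernel

theorem alt4_center : ∀ z : alternatingGroup (Fin 4), (∀ a, z * a = a * z) → z = 1 := by decide +kernel

theorem dihedral_two_cases : ∀ z : DihedralGroup 2, z = 1 ∨ z = .r 1 ∨ z = .sr 0 ∨ z = .r 1 * .sr 0 := by
  decide +kernel

theorem dihedral_two_ne : (DihedralGroup.r (1 : ZMod 2) * .r 1 = 1 ∧ DihedralGroup.sr (0 : ZMod 2) * .sr 0 = 1 ∧
    DihedralGroup.r (1 : ZMod 2) * .sr 0 = .sr 0 * .r 1) ∧
    DihedralGroup.r (1 : ZMod 2) ≠ 1 ∧ DihedralGroup.sr (0 : ZMod 2) ≠ 1 ∧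
    DihedralGroup.r (1 : ZMod 2) ≠ .sr 0 := by decide +kernel

end Cfsg.Agent.Forms.DicksonPGL
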