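import Mathlib
import Cfsg.Agent.Lib.Forms.DicksonPGL.Main
import Cfsg.Agent.Lib.Forms.DicksonPGL.SylowExcl
import Cfsg.Agent.S0803
import Cfsg.Agent.S0804

/-!
# Types of the maximal subgroups of `PSL₂(q)` and `PGL₂(q)`
-/

set_option autoImplicit false
set_option linter.unusedSectionVars false

open scoped Classical

namespace Cfsg.Agent.Forms.DicksonPGL

open Matrix MulAction
open scoped MatrixGroups

variable {F : Type*} [Field F] [Fintype F]

local notation "PP" => Matrix.ProjGenLinGroup (Fin 2) F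
local notation "PG" => Matrix.ProjectiveSpecialLinearGroup (Fin 2) F
local notation "toP" => Matrix.ProjectiveSpecialLinearGroup.toPGL (n := Fin 2) (R := F)

variable {G0 M : Subgroup (Matrix.ProjGenLinGroup (Fin 2) F)}

theorem odd_card_iff (p : ℕ) [Fact p.Prime] [CharP F p] : Odd (Fintype.card F) ↔ p ≠ 2 := by
  obtain ⟨n, -, hn⟩ := FiniteField.card F p
  rw [hn, Nat.odd_pow_iff n.pos.ne']
  exact ⟨fun h e => by rw [e] at h; exact absurd h (by decide),
    (Fact.out : p.Prime).odd_of_ne_two⟩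

theorem gcd_of_odd (h : Odd (Fintype.card F)) : Nat.gcd 2 (Fintype.card F - 1) = 2 := by
  obtain ⟨t, ht⟩ := h
  exact Nat.gcd_eq_left (Nat.dvd_of_mod_eq_zero (by omega))

theorem gcd_of_even (h : Even (Fintype.card F)) : Nat.gcd 2 (Fintype.card F - 1) = 1 := by
  obtain ⟨t, ht⟩ := h
  have := Fintype.one_lt_card (α := F)
  exact Nat.prime_two.coprime_iff_not_dvd.2 (by omega)

theorem L_eq_top (h : Even (Fintype.card F)) : L F = ⊤ := by
  refine Subgroup.eq_top_of_card_eq _ ?_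
  rw [natCard_L, natCard_PP, ← DicksonCor.gcd_mul_natCard, gcd_of_even h, one_mul]

theorem toP_bijective (h : Even (Fintype.card F)) : Function.Bijective toP := by
  refine ⟨Matrix.ProjectiveSpecialLinearGroup.toPGL_injective, fun x => ?_⟩
  have : x ∈ L F := by rw [L_eq_top h]; exact Subgroup.mem_top x
  exact this

/-- `PSL₂ ≅ PGL₂` in even characteristic -/
noncomputable def pglEquiv (h : Even (Fintype.card F)) : PP ≃* PG :=
  (MulEquiv.ofBijective toP (toP_bijective h)).symm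

theorem natCard_pg_lt {n : ℕ} (h4 : 4 ≤ Fintype.card F)
    (hn : 2 * n < Fintype.card F * ((Fintype.card F - 1) * (Fintype.card F + 1))) :
    n < Nat.card PG := by
  have h := natCard_PP_le (F := F)
  rw [natCard_PP, natCard_L] at h
  omega

/-- the comap is the intersection with `L` -/
noncomputable def comapEquiv (M : Subgroup (Matrix.ProjGenLinGroup (Fin 2) F)) :
    M.comap toP ≃* (M ⊓ L F : Subgroup PP) :=
  ((M.comap toP).equivMapOfInjective toP Matrix.ProjectiveSpecialLinearGroup.toPGL_injective).trans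
    (MulEquiv.subgroupCongr (map_comap_eq M))

theorem natCard_comap (M : Subgroup PP) (h : M ≤ L F) : Nat.card (M.comap toP) = Nat.card M := by
  rw [Nat.card_congr (comapEquiv M).toEquiv, inf_eq_left.2 h]

/-- a maximal subgroup that does not contain `L` is not inside `L` -/
theorem not_le_L {M : Subgroup PP} (hM : IsCoatom M) (hML : ¬ L F ≤ M) (ho : Odd (Fintype.card F)) :
    ¬ M ≤ L F := by
  intro hle
  rcases hM.le_iff.1 hle with e | e
  · have h1 : Nat.card (L F) = Nat.card PP := by rw [e, Subgroup.card_top]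
    rw [natCard_L, natCard_PP, ← DicksonCor.gcd_mul_natCard, gcd_of_odd ho] at h1
    have := Nat.card_pos (α := PG)
    omega
  · exact hML e.le

/-- the torus normaliser in `L` -/
theorem torus_psl {X : SL(2, F)} (hX : Semisimple X) :
    ∃ k τ : ℕ, (τ = Fintype.card F - 1 ∨ τ = Fintype.card F + 1) ∧ Nat.card (torus X) = τ ∧
      Nat.gcd 2 (Fintype.card F - 1) * k = τ ∧
      Nat.card (torusN X ⊓ L F : Subgroup PP) = 2 * k ∧
      Nonempty ((torusN X ⊓ L F : Subgroup PP) ≃* DihedralGroup k) ∧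
      ∃ c ∈ (torusN X).comap toP, ∃ y ∈ (torusN X).comap toP, orderOf c = k ∧ y * c * y⁻¹ = c⁻¹ := by
  obtain ⟨h1, h2, _, ⟨hcN, c, rfl⟩, _, ⟨hyN, y, rfl⟩, hoc, hyc⟩ := torusN_dihedral hX (le_refl (L F))
  refine ⟨_, _, (torus_facts hX).2.2, rfl, gcd_mul_torus_inf_L hX, h1, h2, c, hcN, y, hyN, ?_, ?_⟩
  · rw [← orderOf_injective _ Matrix.ProjectiveSpecialLinearGroup.toPGL_injective c]; exact hoc
  · refine Matrix.ProjectiveSpecialLinearGroup.toPGL_injective ?_
    rw [map_mul, map_mul, map_inv, map_inv]; exact hyc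

/-- no maximal subgroup has a four-group as its trace on `L` and at most eight elements -/
theorem no_four (h : MaxIn G0 M) (ho : Odd (Fintype.card F)) (h5 : 5 ≤ Fintype.card F)
    (e : M.comap toP ≃* DihedralGroup 2) (h8 : Nat.card M < 12) : False := by
  obtain ⟨p, hp⟩ := CharP.exists F
  haveI := hp
  haveI : Fact p.Prime := ⟨CharP.char_is_prime F p⟩
  have h2 : (2 : F) ≠ 0 := Ring.two_ne_zero (by
    rw [ringChar.eq F p]; exact (odd_card_iff (F := F) p).1 ho)
  obtain ⟨⟨d1, d2, d3⟩, d4, d5, d6⟩ := dihedral_two_ne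
  set x := e.symm (.r 1) with hx
  set y := e.symm (.sr 0) with hy
  have ho2 : ∀ z : DihedralGroup 2, z * z = 1 → z ≠ 1 → orderOf ((e.symm z : M.comap toP) : PG) = 2 :=
    fun z hz hz1 => by
      rw [Subgroup.orderOf_coe, MulEquiv.orderOf_eq, orderOf_eq_prime (by rw [pow_two, hz]) hz1]
  obtain ⟨γ, a, b, fr⟩ := exists_frame h2 (x := (x : PG)) (y := (y : PG)) (ho2 _ d1 d4) (ho2 _ d2 d5)
    (fun h => d6 (e.symm.injective (Subtype.ext h)))
    (((show Commute _ _ from d3).map e.symm.toMonoidHom).map (M.comap toP).subtype)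
  obtain ⟨hx2, hy2, hcomm, hx1, hy1, hne⟩ := fr.basic
  have hmem : ∀ z ∈ ({toP (x : PG), toP (y : PG), toP (x : PG) * toP (y : PG)} : Set PP),
      z ≠ 1 ∧ z ∈ M ⊓ L F := by
    rintro z (rfl | rfl | rfl)
    · exact ⟨hx1, x.2, toP_mem_L _⟩
    · exact ⟨hy1, y.2, toP_mem_L _⟩
    · refine ⟨fun h => hne ?_, mul_mem x.2 y.2, by rw [← map_mul]; exact toP_mem_L _⟩
      exact (mul_left_cancel (h.trans hx2.symm)).symm
  have hle : M ≤ nFour (toP (x : PG)) (toP (y : PG)) := by
    intro m hm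
    refine mem_nFour_of_maps fun z hz => ?_
    obtain ⟨hz1, hzM, hzL⟩ := hmem z hz
    obtain ⟨w, hw, hwz⟩ : m * z * m⁻¹ ∈ (M.comap toP).map toP := normalizes hm z (by
      rw [map_comap_eq]; exact ⟨hzM, hzL⟩)
    have hw1 : w ≠ 1 := by
      rintro rfl
      rw [map_one, eq_comm, conj_eq_one_iff] at hwz
      exact hz1 hwz
    rw [← hwz]
    rcases dihedral_two_cases (e ⟨w, hw⟩) with h' | h' | h' | h'
    · exact absurd (congrArg Subtype.val (e.map_eq_one_iff.1 h')) hw1
    · left; rw [hx, ← h', MulEquiv.symm_apply_apply]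
    · right; left; rw [hy, ← h', MulEquiv.symm_apply_apply]
    · right; right
      rw [Set.mem_singleton_iff, ← map_mul, ← Subgroup.coe_mul, hx, hy, ← map_mul, ← h',
        MulEquiv.symm_apply_apply]
  have h12 := (fr.twelve_dvd (toP_mem_L _) (toP_mem_L _) h.amb).1
  have hnL : ¬ L F ≤ nFour (toP (x : PG)) (toP (y : PG)) := by
    refine not_L_le_of_card ?_
    rw [fr.natCard_top (toP_mem_L _) (toP_mem_L _), natCard_L]
    refine natCard_pg_lt (by omega) ?_
    have : 5 * (4 * 6) ≤ Fintype.card F * ((Fintype.card F - 1) * (Fintype.card F + 1)) :=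
      Nat.mul_le_mul h5 (Nat.mul_le_mul (by omega) (by omega))
    omega
  rw [← h.eq_inf hle hnL] at h12
  omega

/-- a subgroup of order six in even characteristic normalises a torus -/
theorem torus_of_six (p : ℕ) [Fact p.Prime] [CharP F p] (hp : p = 2) (h4 : 4 ≤ Fintype.card F)
    (h : MaxIn G0 M) (hML : M ≤ L F) (h6 : Nat.card M = 6) :
    ∃ X : SL(2, F), Semisimple X ∧ M = torusN X ⊓ G0 := by
  set H := M.comap toP with hH
  have hH6 : Nat.card H = 6 := (natCard_comap M hML).trans h6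
  haveI : Fact (Nat.Prime 3) := ⟨Nat.prime_three⟩
  obtain ⟨g, hg⟩ := exists_prime_orderOf_dvd_card' (G := H) 3 (by rw [hH6]; norm_num)
  have hidx : (Subgroup.zpowers g).index = 2 := by
    have := (Subgroup.zpowers g).index_mul_card
    rw [Nat.card_zpowers, hg, hH6] at this
    omega
  obtain ⟨X, hX⟩ := KleinPSL.pi_surjective (g : PG)
  have hXs : Semisimple X := semisimple_of_pi p X
    (by rw [hX]; intro e; have : g = 1 := Subtype.ext e; rw [this, orderOf_one] at hg; norm_num at hg)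
    (by rw [hX, Subgroup.orderOf_coe, hg, hp]; norm_num)
  refine ⟨X, hXs, h.eq_inf (fun m hm => ?_) (not_L_le_torusN h4 hXs)⟩
  obtain ⟨φ, hφ⟩ := exists_aut toP Matrix.ProjectiveSpecialLinearGroup.toPGL_injective _ (normalizes hm)
  have hmem : φ g ∈ Subgroup.zpowers g := by
    have h3 : (φ g) ^ 3 = 1 := by rw [← map_pow, ← hg, pow_orderOf_eq_one, map_one]
    have e : φ g = ((φ g) ^ 2) ^ 2 := by rw [← pow_mul, show 2 * 2 = 3 + 1 from rfl, pow_succ, h3, one_mul]
    rw [e]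
    exact Subgroup.sq_mem_of_index_two hidx _
  obtain ⟨k, hk⟩ := hmem
  refine mem_torusN_of_conj hXs ?_
  rw [← toPGL_pi, hX, ← hφ g, ← hk]
  show toP ((g ^ k : H) : PG) ∈ torus X
  rw [Subgroup.coe_zpow, map_zpow, ← hX, toPGL_pi]
  exact Subgroup.zpow_mem _ self_mem_torus _

/-- the image of a normal subgroup -/
theorem exists_normal_image {G T : Type*} [Group G] [Group T] (M : Subgroup G) (e : M ≃* T)
    (N : Subgroup T) [hN : N.Normal] : ∃ Q : Subgroup G, Q ≤ M ∧ Nat.card Q = Nat.card N ∧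
      ∀ m ∈ M, ∀ q ∈ Q, m * q * m⁻¹ ∈ Q := by
  refine ⟨N.map (M.subtype.comp e.symm.toMonoidHom), ?_, ?_, ?_⟩
  · rintro _ ⟨n, -, rfl⟩; exact (e.symm n).2
  · exact Subgroup.card_map_of_injective (M.subtype_injective.comp e.symm.injective)
  · rintro m hm _ ⟨n, hn, rfl⟩
    refine ⟨e ⟨m, hm⟩ * n * (e ⟨m, hm⟩)⁻¹, hN.conj_mem n hn _, ?_⟩
    simp

theorem dihedral_rot (k : ℕ) [NeZero k] :
    (Subgroup.zpowers (DihedralGroup.r (1 : ZMod k))).Normal ∧
      Nat.card (Subgroup.zpowers (DihedralGroup.r (1 : ZMod k))) = k := by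
  have hc : Nat.card (Subgroup.zpowers (DihedralGroup.r (1 : ZMod k))) = k := by
    rw [Nat.card_zpowers, DihedralGroup.orderOf_r_one]
  refine ⟨Subgroup.normal_of_index_eq_two ?_, hc⟩
  have := (Subgroup.zpowers (DihedralGroup.r (1 : ZMod k))).index_mul_card
  rw [hc, DihedralGroup.nat_card] at this
  exact Nat.eq_of_mul_eq_mul_right (NeZero.pos k) this

/-- the small dihedral groups are not maximal in `PSL₂(7)`, `PSL₂(9)`, `PSL₂(11)` -/
theorem no_dihedral (M : Subgroup PG) (hM : IsCoatom M) (q k : ℕ) (hq : Fintype.card F = q)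
    (hk : (q = 7 ∧ k = 3) ∨ (q = 7 ∧ k = 4) ∨ (q = 9 ∧ k = 4) ∨ (q = 9 ∧ k = 5) ∨ (q = 11 ∧ k = 5))
    (e : M ≃* DihedralGroup k) : False := by
  have h4 : 4 ≤ Fintype.card F := by omega
  haveI : IsSimpleGroup PG := Classical.Linear.isSimpleGroup_PSL_fin (by norm_num) fun _ => h4
  haveI : NeZero k := ⟨by omega⟩
  have hMc : Nat.card M = 2 * k := by rw [Nat.card_congr e.toEquiv, DihedralGroup.nat_card]
  have hG := DicksonCor.gcd_mul_natCard (F := F)
  rw [hq] at hG
  obtain ⟨hn, hnc⟩ := dihedral_rot k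
  haveI := hn
  obtain ⟨Q, hQM, hQc, hQn⟩ := exists_normal_image M e (Subgroup.zpowers (DihedralGroup.r (1 : ZMod k)))
  rw [hnc] at hQc
  have hsym : q = 7 ∨ q = 9 → ∃ f : Equiv.Perm (Fin 4) →* PG, Function.Injective f := by
    intro h
    obtain ⟨H, ⟨e'⟩⟩ := (Cfsg.Agent.S0803.result (F := F) hq).2 (by rcases h with rfl | rfl <;> norm_num)
    exact ⟨H.subtype.comp e'.symm.toMonoidHom, H.subtype_injective.comp e'.symm.injective⟩
  have halt : q = 9 ∨ q = 11 → ∃ f : alternatingGroup (Fin 5) →* PG, Function.Injective f := by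
    intro h
    obtain ⟨H, ⟨e'⟩⟩ := (Cfsg.Agent.S0804.result (F := F) hq).2 (by rcases h with rfl | rfl <;> norm_num)
    exact ⟨H.subtype.comp e'.symm.toMonoidHom, H.subtype_injective.comp e'.symm.injective⟩
  have c4 : Nat.card (Equiv.Perm (Fin 4)) = 24 := by rw [Nat.card_perm, Nat.card_fin]; rfl
  have c5 : Nat.card (alternatingGroup (Fin 5)) = 60 := by
    rw [nat_card_alternatingGroup, Nat.card_fin]; rfl
  rcases hk with ⟨rfl, rfl⟩ | ⟨rfl, rfl⟩ | ⟨rfl, rfl⟩ | ⟨rfl, rfl⟩ | ⟨rfl, rfl⟩ <;>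
    norm_num [-Nat.card_eq_fintype_card] at hG hMc
  · obtain ⟨f, hf⟩ := hsym (Or.inl rfl)
    obtain ⟨V, T, hV, hT, hTV⟩ := sym4_three
    exact no_max M hM f hf 3 1 Nat.prime_three one_ne_zero (by omega) Q hQM (by rw [hQc]; rfl) hQn V T
      (by rw [hV]; rfl) (by omega) hTV (by omega) (by omega)
  · obtain ⟨f, hf⟩ := hsym (Or.inl rfl)
    obtain ⟨V, T, hV, hT, hTV⟩ := sym4_eight
    exact no_max M hM f hf 2 3 Nat.prime_two (by norm_num) (by omega) M le_rfl (by omega)
      (fun m hm q hq => mul_mem (mul_mem hm hq) (inv_mem hm)) V T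
      (by rw [hV]; rfl) (by omega) hTV (by omega) (by omega)
  · obtain ⟨f, hf⟩ := hsym (Or.inr rfl)
    obtain ⟨V, T, hV, hT, hTV⟩ := sym4_eight
    exact no_max M hM f hf 2 3 Nat.prime_two (by norm_num) (by omega) M le_rfl (by omega)
      (fun m hm q hq => mul_mem (mul_mem hm hq) (inv_mem hm)) V T
      (by rw [hV]; rfl) (by omega) hTV (by omega) (by omega)
  · obtain ⟨f, hf⟩ := halt (Or.inl rfl)
    obtain ⟨V, T, hV, hT, hTV⟩ := alt5_five
    exact no_max M hM f hf 5 1 (by norm_num) one_ne_zero (by omega) Q hQM (by rw [hQc]; rfl) hQn V T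
      (by rw [hV]; rfl) (by omega) hTV (by omega) (by omega)
  · obtain ⟨f, hf⟩ := halt (Or.inr rfl)
    obtain ⟨V, T, hV, hT, hTV⟩ := alt5_five
    exact no_max M hM f hf 5 1 (by norm_num) one_ne_zero (by omega) Q hQM (by rw [hQc]; rfl) hQn V T
      (by rw [hV]; rfl) (by omega) hTV (by omega) (by omega)

/-- `A₄` is not maximal when `A₅` occurs -/
theorem no_alt4 (M : Subgroup PG) (hM : IsCoatom M) (q : ℕ) (hq : Fintype.card F = q)
    (h8 : q % 8 = 3 ∨ q % 8 = 5) (h10 : q % 10 = 1 ∨ q % 10 = 9)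
    (e : M ≃* alternatingGroup (Fin 4)) : False := by
  have h4 : 4 ≤ Fintype.card F := by omega
  haveI : IsSimpleGroup PG := Classical.Linear.isSimpleGroup_PSL_fin (by norm_num) fun _ => h4
  have hG := DicksonCor.gcd_mul_natCard (F := F)
  rw [gcd_of_odd (by rw [hq, Nat.odd_iff]; omega), hq] at hG
  obtain ⟨H, ⟨e'⟩⟩ := (Cfsg.Agent.S0804.result (F := F) hq).2 (by
    refine Dvd.dvd.mul_left ?_ q
    have h5 : q % 5 = 1 ∨ q % 5 = 4 := by omega
    have : q ^ 2 % 5 = (q % 5) ^ 2 % 5 := Nat.pow_mod q 2 5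
    rcases h5 with h | h <;> rw [h] at this <;> norm_num at this <;>
      exact Nat.dvd_of_mod_eq_zero (by omega))
  obtain ⟨hcl, h4c⟩ := alt4_four_data
  let N : Subgroup (alternatingGroup (Fin 4)) := subOf (fun z => z * z = 1) (one_mul 1) hcl
  haveI : N.Normal := ⟨fun n hn g => by
    show g * n * g⁻¹ * (g * n * g⁻¹) = 1
    rw [show g * n * g⁻¹ * (g * n * g⁻¹) = g * (n * n) * g⁻¹ by group, show n * n = 1 from hn,
      mul_one, mul_inv_cancel]⟩
  obtain ⟨Q, hQM, hQc, hQn⟩ := exists_normal_image M e N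
  rw [card_subtype_eq N _ (fun _ => mem_subOf) h4c] at hQc
  obtain ⟨V, T, hV, hT, -, hTV⟩ := alt5_four_norm
  have c5 : Nat.card (alternatingGroup (Fin 5)) = 60 := by
    rw [nat_card_alternatingGroup, Nat.card_fin]; rfl
  have hMc : Nat.card M = 12 := by
    rw [Nat.card_congr e.toEquiv, nat_card_alternatingGroup, Nat.card_fin]; rfl
  have h16 : q * ((q - 1) * (q + 1)) % 16 ≠ 0 := by
    have hr : q % 16 = 3 ∨ q % 16 = 5 ∨ q % 16 = 11 ∨ q % 16 = 13 := by omega
    rw [Nat.mul_mod, Nat.mul_mod (q - 1)]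
    rcases hr with h | h | h | h <;>
      rw [h, show (q - 1) % 16 = (q % 16) - 1 by omega, show (q + 1) % 16 = (q % 16) + 1 by omega, h] <;>
      norm_num
  refine no_max M hM (H.subtype.comp e'.symm.toMonoidHom) (H.subtype_injective.comp e'.symm.injective)
    2 2 Nat.prime_two two_ne_zero ?_ Q hQM (by rw [hQc]; rfl) hQn V T (by rw [hV]; rfl) (by omega) hTV
    (by omega) ?_
  · intro h
    have : 2 * 2 ^ 3 ∣ q * ((q - 1) * (q + 1)) := hG ▸ Nat.mul_dvd_mul_left 2 h
    norm_num at this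
    exact h16 (Nat.mod_eq_zero_of_dvd this)
  · have : 11 * (10 * 12) ≤ q * ((q - 1) * (q + 1)) :=
      Nat.mul_le_mul (by omega) (Nat.mul_le_mul (by omega) (by omega))
    omega

end Cfsg.Agent.Forms.DicksonPGL
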