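import Mathlib
import Cfsg.Agent.Lib.Forms.DicksonPGL.Basic
import Cfsg.Agent.Lib.Forms.DicksonMax
import Cfsg.Agent.S0805

/-!
# Maximality of subgroups of given shape in `PSL₂`
-/

set_option autoImplicit false
set_option linter.unusedSectionVars false

open scoped Classical

namespace Cfsg.Agent.Forms.DicksonPGL

open Matrix MulAction
open scoped MatrixGroups

/-- any `A₄` is maximal in `PSL₂(p)` for these primes -/
theorem coatom_alt4 {F : Type*} [Field F] [Fintype F] (p : ℕ) [Fact p.Prime] (hF : Fintype.card F = p) (h5 : 5 ≤ p) (h8 : p % 8 = 3 ∨ p % 8 = 5) (h10 : p % 10 ≠ 1 ∧ p % 10 ≠ 9) (H : Subgroup (Matrix.ProjectiveSpecialLinearGroup (Fin 2) F)) (e : H ≃* alternatingGroup (Fin 4)) : IsCoatom H := by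
  classical
  haveI : CharP F p := charP_of_card_eq_prime hF
  have hp : p.Prime := Fact.out
  have hG := Forms.DicksonCor.gcd_mul_natCard (F := F)
  have hd : Nat.gcd 2 (Fintype.card F - 1) = 2 := by
    rw [hF]; exact Nat.gcd_eq_left (Nat.dvd_of_mod_eq_zero (by omega))
  rw [hd, hF] at hG
  set N := Nat.card (Matrix.ProjectiveSpecialLinearGroup (Fin 2) F) with hN
  have h12 : Nat.card H = 12 := by
    rw [Nat.card_congr e.toEquiv, nat_card_alternatingGroup, Nat.card_fin]; rfl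
  refine Forms.DicksonMax.coatom_of H ?_ fun M hMt hM => ?_
  · rw [h12, ← hN]
    intro e0
    have : 5 * (4 * 6) ≤ p * ((p - 1) * (p + 1)) := Nat.mul_le_mul h5 (Nat.mul_le_mul (by omega) (by omega))
    omega
  have hlt := Forms.DicksonMax.lt_card hM
  rw [h12] at hlt
  have hMG : Nat.card M ∣ N := M.card_subgroup_dvd_card
  obtain ⟨u, v, hu, hv, hu', hv', hne⟩ := Forms.DicksonMax.transfer H e Forms.DicksonMax.alt4_not_comm
  have hpH : ¬ p ∣ Nat.card H := by
    rw [h12]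
    intro h
    rcases (hp.dvd_mul (m := 2 ^ 2) (n := 3)).1 h with h | h
    · have := Nat.le_of_dvd (by norm_num) (hp.dvd_of_dvd_pow h); omega
    · have := Nat.le_of_dvd (by norm_num) h; omega
  have hpp : p * ((p - 1) * (p + 1)) = p * (p ^ 2 - 1) := by
    rw [mul_comm (p - 1), ← Nat.sq_sub_sq, one_pow]
  rcases Forms.DicksonMax.overgroup_of_coprime p H M hM.le hpH Nat.prime_three (by norm_num) hu hv hu' hv' hne
      with ⟨⟨e'⟩⟩ | ⟨⟨e'⟩⟩ | ⟨⟨e'⟩⟩ | h
  · rw [Nat.card_congr e'.toEquiv, nat_card_alternatingGroup, Nat.card_fin] at hlt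
    norm_num [Nat.factorial] at hlt
  · rw [Nat.card_congr e'.toEquiv, Nat.card_perm, Nat.card_fin] at hMG
    obtain ⟨t, ht⟩ := hMG
    norm_num [Nat.factorial] at ht
    rw [ht, hpp] at hG
    have hcop : Nat.Coprime 16 p := by
      refine Nat.Coprime.pow_left 4 (Nat.prime_two.coprime_iff_not_dvd.2 ?_)
      omega
    have h16 : 16 ∣ p ^ 2 - 1 := hcop.dvd_of_dvd_mul_left ⟨3 * t, by omega⟩
    have : p ^ 2 % 16 = (p % 16) ^ 2 % 16 := Nat.pow_mod p 2 16
    have hp1 : 1 ≤ p ^ 2 := Nat.one_le_pow _ _ hp.pos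
    have h16' : p % 16 = 3 ∨ p % 16 = 5 ∨ p % 16 = 11 ∨ p % 16 = 13 := by omega
    rcases h16' with h | h | h | h <;> rw [h] at this <;> norm_num at this <;> omega
  · have h60 : Nat.card M = 60 := by
      rw [Nat.card_congr e'.toEquiv, nat_card_alternatingGroup, Nat.card_fin]; rfl
    rcases eq_or_ne p 5 with rfl | hp5
    · exact hMt (M.eq_top_of_card_eq (by rw [h60, ← hN]; omega))
    · obtain ⟨t, ht⟩ := hMG
      rw [h60] at ht
      rw [ht, hpp] at hG
      have hcop : Nat.Coprime 5 p := (Nat.coprime_primes (by norm_num) hp).2 hp5.symm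
      have h5' : 5 ∣ p ^ 2 - 1 := hcop.dvd_of_dvd_mul_left ⟨24 * t, by omega⟩
      have : p ^ 2 % 5 = (p % 5) ^ 2 % 5 := Nat.pow_mod p 2 5
      have hp1 : 1 ≤ p ^ 2 := Nat.one_le_pow _ _ hp.pos
      have h55 : p % 5 = 2 ∨ p % 5 = 3 := by
        have : p % 5 ≠ 0 := fun h0 => hp5
          ((Nat.prime_dvd_prime_iff_eq (by norm_num) hp).1 (Nat.dvd_of_mod_eq_zero h0)).symm
        have : p % 2 = 1 := by omega
        omega
      rcases h55 with h | h <;> rw [h] at this <;> norm_num at this <;> omega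
  · obtain ⟨K, iK, fK, m, hm, h⟩ := h
    obtain ⟨hm2, -⟩ := Forms.DicksonCor.subfield_bound M hMt K m hm h
    rw [hF] at hm
    have : m = 1 := ((Nat.Prime.pow_eq_iff hp).1 hm).2
    omega


/-- any `PSL₂` of a subfield of odd prime degree is maximal -/
theorem coatom_psl_sub {F K : Type*} [Field F] [Fintype F] [Field K] [Fintype K] (q r : ℕ) (hK : Fintype.card K = q) (hF : Fintype.card F = q ^ r) (hq : Odd q) (hr : r.Prime) (hr2 : r ≠ 2) (H : Subgroup (Matrix.ProjectiveSpecialLinearGroup (Fin 2) F)) (e : H ≃* Matrix.ProjectiveSpecialLinearGroup (Fin 2) K) : IsCoatom H := by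
  classical
  obtain ⟨p, hFp⟩ := CharP.exists F
  haveI := hFp
  haveI hp : Fact p.Prime := ⟨CharP.char_is_prime F p⟩
  obtain ⟨n, -, hn⟩ := FiniteField.card F p
  have hq1 : 2 ≤ q := hK ▸ Fintype.one_lt_card
  obtain ⟨a, -, ha⟩ := (Nat.dvd_prime_pow hp.out).1
    ((dvd_pow_self q hr.ne_zero).trans (dvd_of_eq (hF.symm.trans hn)))
  haveI : CharP K p := charP_of_card_eq_prime_pow (hK.trans ha)
  have hp2 : p ≠ 2 := fun e => by
    subst e
    have ha0 : a ≠ 0 := fun e => by rw [e, pow_zero] at ha; omega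
    exact Nat.not_even_iff_odd.2 hq (ha ▸ Nat.even_pow.2 ⟨even_two, ha0⟩)
  have hc3 : 3 ≤ q := by
    obtain ⟨t, ht⟩ := hq
    omega
  have hbig : ∀ t, t ≤ q → t * ((t - 1) * (t + 1)) ≤ q * ((q - 1) * (q + 1)) := fun t ht =>
    Nat.mul_le_mul ht (Nat.mul_le_mul (by omega) (by omega))
  have hFo : Odd (q ^ r) := hq.pow
  have hH : 2 * Nat.card H = q * ((q - 1) * (q + 1)) := by
    have := Classical.SmallIso.natCard_pslTwo K
    rw [Classical.GL2.natCard_SL_two, hK, Nat.gcd_eq_left (show 2 ∣ q - 1 by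
      obtain ⟨t, ht⟩ := hq; exact Nat.dvd_of_mod_eq_zero (by omega))] at this
    rw [Nat.card_congr e.toEquiv, this]
  obtain ⟨u, v, hu, hv, hu', hv', hne⟩ := Forms.DicksonMax.transfer H e
    (Forms.DicksonMax.psl_not_comm K p)
  have hG := Forms.DicksonCor.gcd_mul_natCard (F := F)
  rw [hF, Nat.gcd_eq_left (show 2 ∣ q ^ r - 1 by
    obtain ⟨t, ht⟩ := hFo; exact Nat.dvd_of_mod_eq_zero (by omega))] at hG
  refine Forms.DicksonMax.coatom_of H ?_ fun M hMt hM => ?_
  · intro e0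
    rw [← e0, hH] at hG
    have h2 : q < q ^ r := lt_self_pow₀ (by omega) hr.one_lt
    have h5 : q * ((q - 1) * (q + 1)) < q ^ r * ((q ^ r - 1) * (q ^ r + 1)) :=
      Nat.mul_lt_mul_of_lt_of_le h2 (Nat.mul_le_mul (by omega) (by omega))
        (Nat.mul_pos (by omega) (by omega))
    omega
  have hlt := Forms.DicksonMax.lt_card hM
  have hdvd := Subgroup.card_dvd_of_le hM.le
  have h24 : 24 ≤ q * ((q - 1) * (q + 1)) := hbig 3 hc3
  have hMG : 2 * Nat.card M ∣ q ^ r * ((q ^ r - 1) * (q ^ r + 1)) :=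
    hG ▸ Nat.mul_dvd_mul_left 2 M.card_subgroup_dvd_card
  have h3 : q = 3 → ¬ (24 ∣ Nat.card M) ∧ ¬ (60 ∣ Nat.card M) := by
    rintro rfl
    obtain ⟨j, hj⟩ := hr.odd_of_ne_two hr2
    have hsq : (3 ^ r - 1) * (3 ^ r + 1) = 9 ^ r - 1 := by
      rw [mul_comm, ← Nat.sq_sub_sq, one_pow, ← pow_mul, mul_comm, pow_mul]; norm_num
    rw [hsq] at hMG
    have hm80 : 9 ^ r % 80 = 9 := by
      rw [hj, pow_succ, pow_mul, Nat.mul_mod, Nat.pow_mod]; norm_num
    constructor
    · intro h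
      have h16 : 16 ∣ 3 ^ r * (9 ^ r - 1) :=
        (show 16 ∣ 2 * 24 by norm_num).trans ((Nat.mul_dvd_mul_left 2 h).trans hMG)
      have h16' : 16 ∣ 9 ^ r - 1 := (Nat.Coprime.pow 4 r (show Nat.Coprime 2 3 by norm_num)).dvd_of_dvd_mul_left
        (show 2 ^ 4 ∣ 3 ^ r * (9 ^ r - 1) by exact h16)
      generalize 9 ^ r = w at hm80 h16'
      omega
    · intro h
      have h5' : 5 ∣ 3 ^ r * (9 ^ r - 1) :=
        (show 5 ∣ 2 * 60 by norm_num).trans ((Nat.mul_dvd_mul_left 2 h).trans hMG)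
      have h5'' : 5 ∣ 9 ^ r - 1 :=
        (Nat.Coprime.pow_right r (show Nat.Coprime 5 3 by norm_num)).dvd_of_dvd_mul_left h5'
      generalize 9 ^ r = w at hm80 h5''
      omega
  rcases Forms.DicksonMax.overgroup_of_modular p hp2 H M hM.le hu hv hu' hv' hne
      with ⟨⟨e'⟩⟩ | ⟨⟨e'⟩⟩ | ⟨⟨e'⟩⟩ | h
  · rw [Nat.card_congr e'.toEquiv, nat_card_alternatingGroup, Nat.card_fin] at hlt
    norm_num [Nat.factorial, -Nat.card_eq_fintype_card] at hlt
    omega
  · rw [Nat.card_congr e'.toEquiv, Nat.card_perm, Nat.card_fin] at hlt h3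
    norm_num [Nat.factorial, -Nat.card_eq_fintype_card] at hlt h3
    have h5' : q = 3 := by
      by_contra hne3
      have := hbig 5 (by obtain ⟨t, ht⟩ := hq; omega)
      omega
    exact h3 h5'
  · rw [Nat.card_congr e'.toEquiv, nat_card_alternatingGroup, Nat.card_fin] at hlt h3
    norm_num [Nat.factorial, -Nat.card_eq_fintype_card] at hlt h3
    rcases Nat.lt_or_ge q 7 with h | h
    · obtain rfl | rfl : q = 3 ∨ q = 5 := by obtain ⟨t, ht⟩ := hq; omega
      · exact h3 rfl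
      · omega
    · have := hbig 7 h
      omega
  · obtain ⟨K', iK, fK, m, hm, h⟩ := h
    obtain ⟨h1, hmr⟩ := Forms.DicksonMax.subfield_same p hr hF hq1 hM.le hMt (by rw [hH]) K' m hm h
    rcases h with ⟨⟨e'⟩⟩ | h
    · have := Classical.SmallIso.natCard_pslTwo K'
      rw [Classical.GL2.natCard_SL_two, h1, Nat.gcd_eq_left (show 2 ∣ q - 1 by
        obtain ⟨t, ht⟩ := hq; exact Nat.dvd_of_mod_eq_zero (by omega)),
        ← Nat.card_congr e'.toEquiv] at this
      omega
    · obtain ⟨j, hj⟩ := (S0805.result (K := K') hF hFo r hr.one_lt.le (by rw [h1])).2.1 ⟨M, h⟩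
      exact Nat.not_even_iff_odd.2 (hr.odd_of_ne_two hr2) ⟨j, hj⟩


/-- point stabilisers are maximal -/
theorem coatom_stab {F : Type*} [Field F] [Fintype F] (w : OnePoint F) :
    IsCoatom (stabilizer (Matrix.ProjectiveSpecialLinearGroup (Fin 2) F) (DicksonField.emb F w)) := by
  set G := Matrix.ProjectiveSpecialLinearGroup (Fin 2) F
  set S := stabilizer G (DicksonField.emb F w) with hS
  refine ⟨fun e => ?_, fun R hR => ?_⟩
  · have := index_stabilizer_psl (F := F) w
    rw [← hS, e, Subgroup.index_top] at this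
    have := Fintype.card_pos (α := F)
    omega
  obtain ⟨g, hg⟩ : DicksonField.emb F w ∈ orbit G (DicksonField.emb F (OnePoint.infty : OnePoint F)) := by
    rw [DicksonCor.orbit_emb]; exact ⟨w, rfl⟩
  obtain ⟨x, hxR, hxS⟩ := SetLike.exists_of_lt hR
  -- the stabiliser is transitive on the other points
  have htr : ∀ v v' : OnePoint F, v ≠ w → v' ≠ w → ∃ s ∈ S, s • DicksonField.emb F v = DicksonField.emb F v' := by
    obtain ⟨A, rfl⟩ := KleinPSL.pi_surjective g
    simp only at hg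
    rw [DicksonField.pi_smul_emb, DicksonField.emb_injective.eq_iff] at hg
    set A' := Matrix.SpecialLinearGroup.toGL A with hA'
    intro v v' hv hv'
    have fin : ∀ u : OnePoint F, u ≠ w → ∃ t : F, A'⁻¹ • u = (t : OnePoint F) := by
      intro u hu
      rcases h : A'⁻¹ • u with _ | t
      · exact absurd (((inv_smul_eq_iff (g := A')).1 h).trans hg) hu
      · exact ⟨t, rfl⟩
    obtain ⟨t, ht⟩ := fin v hv
    obtain ⟨t', ht'⟩ := fin v' hv'
    refine ⟨KleinPSL.pi F (A * Classical.GL2.uniSL (t' - t) * A⁻¹), ?_, ?_⟩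
    · rw [hS, mem_stabilizer_iff, DicksonField.pi_smul_emb, map_mul, map_mul, map_inv, ← hA', mul_smul,
        mul_smul, ← hg, inv_smul_smul, OnePoint.smul_infty_eq_self_iff.2]
      show ((Classical.GL2.uniSL (t' - t) : SL(2, F)) : Matrix (Fin 2) (Fin 2) F) 1 0 = 0
      simp [Classical.GL2.coe_uniSL]
    · rw [DicksonField.pi_smul_emb, map_mul, map_mul, map_inv, ← hA', mul_smul, mul_smul, ht,
        OnePoint.smul_some_eq_ite]
      congr 1
      rw [inv_smul_eq_iff.1 ht', if_neg]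
      · congr 1
        simp [Matrix.SpecialLinearGroup.toGL, Classical.GL2.coe_uniSL]
      · simp [Matrix.SpecialLinearGroup.toGL, Classical.GL2.coe_uniSL]
  obtain ⟨X, hX⟩ := KleinPSL.pi_surjective x
  set v₀ := Matrix.SpecialLinearGroup.toGL X • w with hv₀
  have hx : x • DicksonField.emb F w = DicksonField.emb F v₀ := by rw [← hX, DicksonField.pi_smul_emb]
  have hv₀w : v₀ ≠ w := fun e => hxS (mem_stabilizer_iff.2 (by rw [hx, e]))
  refine Subgroup.eq_top_iff' R |>.2 fun z => ?_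
  obtain ⟨Z, hZ⟩ := KleinPSL.pi_surjective z
  set v := Matrix.SpecialLinearGroup.toGL Z • w with hv
  have hz : z • DicksonField.emb F w = DicksonField.emb F v := by rw [← hZ, DicksonField.pi_smul_emb]
  by_cases hvw : v = w
  · exact hR.le (mem_stabilizer_iff.2 (by rw [hz, hvw]))
  · obtain ⟨s, hs, hse⟩ := htr v₀ v hv₀w hvw
    have hmem : (s * x)⁻¹ * z ∈ S := mem_stabilizer_iff.2 (by
      rw [mul_smul, hz, inv_smul_eq_iff, mul_smul, hx, hse])
    have := R.mul_mem (R.mul_mem (hR.le hs) hxR) (hR.le hmem)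
    rwa [mul_inv_cancel_left] at this

end Cfsg.Agent.Forms.DicksonPGL
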